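import Groth.Agent.Lim60.RingBridge
import Groth.Agent.LimDesc62.Wrap
import Groth.Agent.LimDesc62.ClosedImm
import Groth.Agent.CAlg5.ColimSmooth
import Mathlib.AlgebraicGeometry.Morphisms.Finite
import Mathlib.AlgebraicGeometry.Morphisms.Smooth
import Mathlib.AlgebraicGeometry.Morphisms.Etale
import Mathlib.AlgebraicGeometry.Morphisms.FormallyUnramified

set_option autoImplicit false
set_option backward.isDefEq.respectTransparency.types false

/-! Finite, unramified, smooth and etale morphisms descend to a stage. -/

universe u

open CategoryTheory CategoryTheory.Limits AlgebraicGeometry TensorProduct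
open Groth.Agent.LimDesc62

namespace Groth.Agent.Lim60

theorem finiteType_appTop {X Y : Scheme.{u}} (f : X ⟶ Y) [IsAffine X] [IsAffine Y]
    (h : LocallyOfFiniteType f) : f.appTop.hom.FiniteType :=
  (HasRingHomProperty.iff_of_isAffine (P := @LocallyOfFiniteType)).mp h

theorem finitePresentation_appTop {X Y : Scheme.{u}} (f : X ⟶ Y) [IsAffine X] [IsAffine Y]
    (h : LocallyOfFinitePresentation f) : f.appTop.hom.FinitePresentation :=
  (HasRingHomProperty.iff_of_isAffine (P := @LocallyOfFinitePresentation)).mp h

theorem isFinite_iff_appTop {X Y : Scheme.{u}} (f : X ⟶ Y) [IsAffine X] [IsAffine Y] :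
    IsFinite f ↔ f.appTop.hom.Finite :=
  (HasAffineProperty.iff_of_isAffine (P := @IsFinite)).trans (and_iff_right ‹IsAffine X›)

theorem descProp_isFinite : DescProp.{u} @LocallyOfFiniteType @IsFinite := by
  have h1 : DescProp ((@LocallyOfFiniteType ⊓ @IsAffineHom) ⊓ targetAff.{u}) @IsFinite := by
    refine descProp_of_ring (fun f => f.FiniteType) (fun f => f.Finite) RingHom.finite_respectsIso
      (fun f _ _ h => finiteType_appTop f h) (fun f _ _ => isFinite_iff_appTop f) ?_
    intro R _ ι G _ _ A _ _ g hs C _ _ hC hA
    have : Algebra.FiniteType R C := RingHom.finiteType_algebraMap.mp hC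
    obtain ⟨l, hl⟩ := hs.exists_finite C (RingHom.finite_algebraMap.mp hA)
    exact ⟨l, RingHom.finite_algebraMap.mpr hl⟩
  have := isStableUnderBaseChange_lft.{u}
  have : MorphismProperty.IsStableUnderBaseChange (@IsAffineHom : MorphismProperty Scheme.{u}) :=
    isStableUnderBaseChange_isAffineHom
  have := isStableUnderBaseChange_inf (P := (@LocallyOfFiniteType : MorphismProperty Scheme.{u})) (Q := @IsAffineHom)
  exact DescProp.of_stage (fun _ _ f (hf : IsFinite f) => (inferInstance : IsAffineHom f))
    (descProp_isAffineHom.mono_hyp le_top) (DescProp.of_affine h1)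

theorem descProp_formallyUnramified : DescProp.{u} @LocallyOfFiniteType @FormallyUnramified := by
  have := isStableUnderBaseChange_lft.{u}
  refine DescProp.of_affine (descProp_of_source (fun j f _ (hf : LocallyOfFiniteType f) =>
    (inferInstance : LocallyOfFiniteType (j ≫ f))) ?_)
  refine descProp_of_ring (fun f => f.FiniteType) (fun f => f.FormallyUnramified)
    RingHom.FormallyUnramified.respectsIso (fun f _ _ h => finiteType_appTop f h)
    (fun f _ _ => HasRingHomProperty.iff_of_isAffine (P := @FormallyUnramified)) ?_
  intro R _ ι G _ _ A _ _ g hs C _ _ hC hA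
  have : Algebra.FiniteType R C := RingHom.finiteType_algebraMap.mp hC
  obtain ⟨l, hl⟩ := hs.exists_unramified C ⟨RingHom.formallyUnramified_algebraMap.mp hA, inferInstance⟩
  exact ⟨l, RingHom.formallyUnramified_algebraMap.mpr hl.formallyUnramified⟩

theorem descProp_smooth : DescProp.{u} @LocallyOfFinitePresentation @Smooth := by
  have := isStableUnderBaseChange_lfp.{u}
  refine DescProp.of_affine (descProp_of_source (fun j f _ (hf : LocallyOfFinitePresentation f) =>
    (inferInstance : LocallyOfFinitePresentation (j ≫ f))) ?_)
  refine descProp_of_ring (fun f => f.FinitePresentation) (fun f => f.Smooth)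
    RingHom.Smooth.respectsIso (fun f _ _ h => finitePresentation_appTop f h)
    (fun f _ _ => HasRingHomProperty.iff_of_isAffine (P := @Smooth)) ?_
  intro R _ ι G _ _ A _ _ g hs C _ _ hC hA
  have : Algebra.FinitePresentation R C := RingHom.finitePresentation_algebraMap.mp hC
  obtain ⟨l, hl⟩ := hs.exists_smooth C (RingHom.smooth_algebraMap.mp hA)
  exact ⟨l, RingHom.smooth_algebraMap.mpr hl⟩

theorem descProp_etale : DescProp.{u} @LocallyOfFinitePresentation @Etale := by
  have := isStableUnderBaseChange_lfp.{u}
  refine DescProp.of_affine (descProp_of_source (fun j f _ (hf : LocallyOfFinitePresentation f) =>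
    (inferInstance : LocallyOfFinitePresentation (j ≫ f))) ?_)
  refine descProp_of_ring (fun f => f.FinitePresentation) (fun f => f.Etale)
    RingHom.Etale.respectsIso (fun f _ _ h => finitePresentation_appTop f h)
    (fun f _ _ => HasRingHomProperty.iff_of_isAffine (P := @Etale)) ?_
  intro R _ ι G _ _ A _ _ g hs C _ _ hC hA
  have : Algebra.FinitePresentation R C := RingHom.finitePresentation_algebraMap.mp hC
  obtain ⟨l, hl⟩ := hs.exists_etale C (RingHom.etale_algebraMap.mp hA)
  exact ⟨l, RingHom.etale_algebraMap.mpr hl⟩

theorem respectsIso_isFinite : MorphismProperty.RespectsIso (@IsFinite : MorphismProperty Scheme.{u}) := inferInstance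

theorem respectsIso_formallyUnramified :
    MorphismProperty.RespectsIso (@FormallyUnramified : MorphismProperty Scheme.{u}) := inferInstance

theorem respectsIso_smooth : MorphismProperty.RespectsIso (@Smooth : MorphismProperty Scheme.{u}) := inferInstance

theorem respectsIso_etale : MorphismProperty.RespectsIso (@Etale : MorphismProperty Scheme.{u}) := inferInstance

end Groth.Agent.Lim60
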