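import Groth.Agent.LimDesc62.Affine
import Mathlib.AlgebraicGeometry.Morphisms.ClosedImmersion
import Mathlib.CategoryTheory.Limits.Constructions.Over.Connected

set_option autoImplicit false
set_option backward.isDefEq.respectTransparency.types false
set_option backward.defeqAttrib.useBackward true

/-! A closed subscheme of a limit, locally of finite type over a stage, maps by a closed immersion
to a later stage. -/

universe u

open CategoryTheory CategoryTheory.Limits AlgebraicGeometry Opposite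
open Groth.Agent.LimDesc62

attribute [local instance] CategoryTheory.isConnected_of_hasTerminal

namespace Groth.Agent.Lim60

variable {I : Type u} [SmallCategory I] [IsCofiltered I] (D : I ⥤ Scheme.{u}) (c : Cone D)
  (hc : IsLimit c) [∀ (i j : I) (f : i ⟶ j), IsAffineHom (D.map f)]

include hc

/-- The affine case. -/
theorem exists_isClosedImmersion_of_isAffine [∀ i, IsAffine (D.obj i)] (i : I) {Y : Scheme.{u}}
    (h : Y ⟶ c.pt) [IsClosedImmersion h] [LocallyOfFiniteType (h ≫ c.π.app i)] :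
    ∃ (j : I) (_ : j ⟶ i), IsClosedImmersion (h ≫ c.π.app j) := by
  have : IsAffineHom (c.π.app i) := isAffineHom_π_app D c hc i
  have : IsAffine c.pt := isAffine_of_isAffineHom (c.π.app i)
  have : IsAffine Y := isAffine_of_isAffineHom h
  have hft : (h ≫ c.π.app i).appTop.hom.FiniteType :=
    (HasRingHomProperty.iff_of_isAffine (P := @LocallyOfFiniteType)).mp inferInstance
  let _ := (h ≫ c.π.app i).appTop.hom.toAlgebra
  obtain ⟨s, hs⟩ := hft.out
  have hcl : Subring.closure (Set.range (h ≫ c.π.app i).appTop.hom ∪ s) = ⊤ := by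
    have := congrArg Subalgebra.toSubring hs
    rw [Algebra.adjoin_eq_ring_closure] at this
    simpa [RingHom.algebraMap_toAlgebra] using this
  have key : ∀ t ∈ s, ∃ (k : I) (y : Γ(D.obj k, ⊤)), (h ≫ c.π.app k).appTop y = t := by
    intro t _
    obtain ⟨x, hx⟩ := (IsClosedImmersion.isAffine_surjective_of_isAffine h).2 t
    obtain ⟨k, y, hy⟩ := exists_appTop_π_eq_of_isAffine_of_isLimit D c hc x
    exact ⟨k, y, by rw [Scheme.Hom.comp_appTop, ConcreteCategory.comp_apply, hy, hx]⟩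
  classical
  choose k y hy using key
  obtain ⟨m, hm⟩ := IsCofiltered.inf_objs_exists (insert i (s.attach.image fun t : {x // x ∈ s} => k t.1 t.2))
  obtain ⟨φ⟩ := hm (X := i) (Finset.mem_insert_self _ _)
  refine ⟨m, φ, IsClosedImmersion.of_surjective_of_isAffine _ ?_⟩
  have hsub : Subring.closure (Set.range (h ≫ c.π.app i).appTop.hom ∪ s) ≤ (h ≫ c.π.app m).appTop.hom.range := by
    rw [Subring.closure_le]
    rintro x (⟨r, rfl⟩ | hx)
    · refine ⟨(D.map φ).appTop r, ?_⟩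
      show ((D.map φ).appTop ≫ (h ≫ c.π.app m).appTop) r = (h ≫ c.π.app i).appTop r
      rw [← Scheme.Hom.comp_appTop, Category.assoc, c.w]
    · obtain ⟨ψ⟩ := hm (X := k x hx) (Finset.mem_insert_of_mem
        (Finset.mem_image.mpr ⟨⟨x, hx⟩, Finset.mem_attach _ _, rfl⟩))
      refine ⟨(D.map ψ).appTop (y x hx), ?_⟩
      show ((D.map ψ).appTop ≫ (h ≫ c.π.app m).appTop) (y x hx) = x
      rw [← Scheme.Hom.comp_appTop, Category.assoc, c.w, hy]
  intro x
  exact hsub (hcl ▸ Subring.mem_top x)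

/-- Closed immersions into the limit which are locally of finite type over a quasi-compact stage
are closed immersions into a later stage. -/
theorem exists_isClosedImmersion_stage (i : I) [CompactSpace (D.obj i)] {Y : Scheme.{u}}
    (h : Y ⟶ c.pt) [IsClosedImmersion h] [LocallyOfFiniteType (h ≫ c.π.app i)] :
    ∃ (j : I) (_ : j ⟶ i), IsClosedImmersion (h ≫ c.π.app j) := by
  obtain ⟨s, hs⟩ := (isCompact_univ (X := D.obj i)).elim_finite_subcover
    (fun V : (D.obj i).affineOpens => (V.1 : Set (D.obj i))) (fun V => V.1.2)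
    (fun x _ => by
      obtain ⟨_, ⟨V, hV, rfl⟩, hxV, -⟩ := (D.obj i).isBasis_affineOpens.exists_subset_of_mem_open (Set.mem_univ x) isOpen_univ
      exact Set.mem_iUnion.mpr ⟨⟨V, hV⟩, hxV⟩)
  have key : ∀ V : s, ∃ (j : I) (φ : j ⟶ i),
      IsClosedImmersion ((h ∣_ (c.π.app i ⁻¹ᵁ V.1.1)) ≫
        (c.π.app j).resLE (D.map φ ⁻¹ᵁ V.1.1) (c.π.app i ⁻¹ᵁ V.1.1)
          (by rw [← Scheme.Hom.comp_preimage, c.w])) := by
    intro V
    have : ∀ j : Over i, IsAffine ((opensDiagram D i V.1.1).obj j) := fun j => V.1.2.preimage (D.map j.hom)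
    let r : Over i := Over.mk (𝟙 i)
    let h' : (h ⁻¹ᵁ (c.π.app i ⁻¹ᵁ V.1.1) : Scheme.{u}) ⟶ (opensCone D c i V.1.1).pt := h ∣_ (c.π.app i ⁻¹ᵁ V.1.1)
    have : IsClosedImmersion h' := IsZariskiLocalAtTarget.restrict ‹IsClosedImmersion h› _
    have e : h' ≫ (opensCone D c i V.1.1).π.app r ≫ (D.map r.hom ⁻¹ᵁ V.1.1).ι =
        (h ⁻¹ᵁ (c.π.app i ⁻¹ᵁ V.1.1)).ι ≫ h ≫ c.π.app i := by
      simp [h', r]
    have : LocallyOfFiniteType (h' ≫ (opensCone D c i V.1.1).π.app r) := by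
      have : LocallyOfFiniteType ((h' ≫ (opensCone D c i V.1.1).π.app r) ≫ (D.map r.hom ⁻¹ᵁ V.1.1).ι) := by
        rw [Category.assoc, e]; infer_instance
      exact locallyOfFiniteType_of_comp _ (D.map r.hom ⁻¹ᵁ V.1.1).ι
    obtain ⟨j, -, hj⟩ := exists_isClosedImmersion_of_isAffine (opensDiagram D i V.1.1)
      (opensCone D c i V.1.1) (isLimitOpensCone D c hc i V.1.1) r h'
    exact ⟨j.left, j.hom, hj⟩
  choose j φ hφ using key
  obtain ⟨m, ψ, χ, hχ⟩ := DescProp.exists_common φ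
  refine ⟨m, ψ, IsZariskiLocalAtTarget.of_iSup_eq_top (fun V : s => D.map ψ ⁻¹ᵁ V.1.1) ?_ fun V => ?_⟩
  · refine top_le_iff.mp fun x _ => ?_
    obtain ⟨V, hV, hx⟩ := Set.mem_iUnion₂.mp (hs (Set.mem_univ (D.map ψ x)))
    exact TopologicalSpace.Opens.mem_iSup.mpr ⟨⟨V, hV⟩, hx⟩
  let W : (c.pt).Opens := c.π.app i ⁻¹ᵁ V.1.1
  let q : (W : Scheme.{u}) ⟶ (D.map ψ ⁻¹ᵁ V.1.1 : Scheme.{u}) :=
    (c.π.app m).resLE (D.map ψ ⁻¹ᵁ V.1.1) W (by rw [← Scheme.Hom.comp_preimage, c.w])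
  let f : Over.mk ψ ⟶ Over.mk (φ V) := Over.homMk (χ V) (hχ V)
  let t : (D.map ψ ⁻¹ᵁ V.1.1 : Scheme.{u}) ⟶ (D.map (φ V) ⁻¹ᵁ V.1.1 : Scheme.{u}) := (opensDiagram D i V.1.1).map f
  have ht : q ≫ t = (c.π.app (j V)).resLE (D.map (φ V) ⁻¹ᵁ V.1.1) W (by rw [← Scheme.Hom.comp_preimage, c.w]) := by
    show (c.π.app m).resLE _ _ _ ≫ (D.map (χ V)).resLE _ _ _ = _
    simp only [Scheme.Hom.resLE_comp_resLE, c.w]
    rfl
  have hq : IsClosedImmersion ((h ∣_ W) ≫ q) := by
    have : IsClosedImmersion (((h ∣_ W) ≫ q) ≫ t) := by rw [Category.assoc, ht]; exact hφ V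
    have : IsAffineHom t := inferInstanceAs (IsAffineHom ((opensDiagram D i V.1.1).map f))
    have : IsSeparated t := IsSeparated.of_isAffineHom (f := t)
    exact IsClosedImmersion.of_comp ((h ∣_ W) ≫ q) t
  have hU : (h ≫ c.π.app m) ⁻¹ᵁ (D.map ψ ⁻¹ᵁ V.1.1) = h ⁻¹ᵁ W := by
    rw [← Scheme.Hom.comp_preimage, Category.assoc, c.w, Scheme.Hom.comp_preimage]
  have e : (h ≫ c.π.app m) ∣_ (D.map ψ ⁻¹ᵁ V.1.1) = (Scheme.isoOfEq Y hU).hom ≫ (h ∣_ W) ≫ q := by
    rw [← cancel_mono (D.map ψ ⁻¹ᵁ V.1.1).ι]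
    rw [morphismRestrict_ι]
    simp only [q, Category.assoc, Scheme.Hom.resLE_comp_ι, morphismRestrict_ι_assoc, Scheme.isoOfEq_hom_ι_assoc]
  rw [e]
  exact (MorphismProperty.cancel_left_of_respectsIso @IsClosedImmersion _ _).mpr hq

omit hc in
theorem S2076 (S : Scheme.{u}) (D : I ⥤ Over S) (c : Cone D) (hc : IsLimit c)
    [∀ (i j : I) (f : i ⟶ j), IsAffineHom (D.map f).left] [∀ i, CompactSpace (D.obj i).left]
    {Y : Scheme.{u}} (h : Y ⟶ c.pt.left) [IsClosedImmersion h] [LocallyOfFiniteType (h ≫ c.pt.hom)] :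
    ∃ i : I, IsClosedImmersion (h ≫ (c.π.app i).left) := by
  obtain ⟨i⟩ := IsCofiltered.nonempty (C := I)
  let D' := D ⋙ Over.forget S
  let c' : Cone D' := (Over.forget S).mapCone c
  have hc' : IsLimit c' := isLimitOfPreserves (Over.forget S) hc
  have : ∀ (a b : I) (f : a ⟶ b), IsAffineHom (D'.map f) := fun a b f =>
    inferInstanceAs (IsAffineHom (D.map f).left)
  have : CompactSpace (D'.obj i) := inferInstanceAs (CompactSpace (D.obj i).left)
  let h' : Y ⟶ c'.pt := h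
  have : IsClosedImmersion h' := ‹IsClosedImmersion h›
  have : LocallyOfFiniteType (h' ≫ c'.π.app i) := by
    have e : (h ≫ (c.π.app i).left) ≫ (D.obj i).hom = h ≫ c.pt.hom :=
      (Category.assoc _ _ _).trans (congrArg (fun z => h ≫ z) (Over.w (c.π.app i)))
    have : LocallyOfFiniteType ((h ≫ (c.π.app i).left) ≫ (D.obj i).hom) := by
      rw [e]; infer_instance
    exact locallyOfFiniteType_of_comp (h ≫ (c.π.app i).left) (D.obj i).hom
  obtain ⟨j, -, hj⟩ := exists_isClosedImmersion_stage D' c' hc' i h' 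
  exact ⟨j, hj⟩

end Groth.Agent.Lim60
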