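import Groth.Agent.Lim60.ClosedImmStage
import Groth.Agent.LimDesc62.ClosedImm

set_option autoImplicit false
set_option backward.isDefEq.respectTransparency false
set_option backward.defeqAttrib.useBackward true

/-! A limit of schemes separated over the base has separated stages. -/

universe u

open CategoryTheory CategoryTheory.Limits AlgebraicGeometry Opposite
open Groth.Agent.LimDesc62

namespace Groth.Agent.Lim60

lemma graph_isPullback {Xk Xj S : Scheme.{u}} (tk : Xk ⟶ S) (g : Xj ⟶ Xk) :
    IsPullback g (pullback.lift (g ≫ pullback.diagonal tk) (𝟙 Xj) (by simp))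
      (pullback.diagonal tk) (pullback.fst (pullback.fst tk tk) g) := by
  refine IsPullback.of_bot ?_ (pullback.lift_fst _ _ _).symm (IsPullback.of_hasPullback (pullback.fst tk tk) g)
  rw [pullback.lift_snd, pullback.diagonal_fst]
  exact IsPullback.of_vert_isIso ⟨by simp⟩

variable {I : Type u} [SmallCategory I] [IsCofiltered I] (S : Scheme.{u}) [QuasiSeparatedSpace S]
  (D : I ⥤ Scheme.{u}) (t : D ⟶ (Functor.const I).obj S) (c : Cone D) (hc : IsLimit c)
  [∀ (i j : I) (a : i ⟶ j), IsAffineHom (D.map a)]
  [∀ i, CompactSpace (D.obj i)] [∀ i, QuasiSeparatedSpace (D.obj i)] (i₀ : I)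

include hc in
theorem exists_stage_graph_isClosedImmersion [IsSeparated (c.π.app i₀ ≫ t.app i₀)] :
    ∃ k : I, IsClosedImmersion
      (pullback.lift (c.π.app k ≫ pullback.diagonal (t.app k)) (𝟙 c.pt)
        (by simp) : c.pt ⟶ pullback (pullback.fst (t.app k) (t.app k)) (c.π.app k)) := by
  let f : c.pt ⟶ S := c.π.app i₀ ≫ t.app i₀
  let t₀ : D.obj i₀ ⟶ S := t.app i₀
  let a := pullback.snd f t₀
  let q : pullback f f ⟶ pullback f t₀ :=
    pullback.map f f f t₀ (𝟙 _) (c.π.app i₀) (𝟙 S) (by simp) (by simp [f, t₀])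
  let p := pullback.snd f f
  have hqp : IsPullback q p a (c.π.app i₀) := by
    refine IsPullback.of_right ?_ (pullback.lift_snd _ _ _) (IsPullback.of_hasPullback f t₀).flip.flip
    convert IsPullback.of_hasPullback f f using 1
    simp [q, pullback.map]
  have hlim : IsLimit (LimTop61.bcCone D c a q p hqp.w) := LimTop61.isLimitBcCone D c hc a q p hqp
  have : QuasiSeparatedSpace c.pt := by
    have : IsAffineHom (c.π.app i₀) := isAffineHom_π_app D c hc i₀
    have : QuasiSeparated (c.π.app i₀) := inferInstance
    exact quasiSeparatedSpace_of_quasiSeparated (c.π.app i₀)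
  have : CompactSpace c.pt := by
    have : IsAffineHom (c.π.app i₀) := isAffineHom_π_app D c hc i₀
    exact QuasiCompact.compactSpace_of_compactSpace (c.π.app i₀)
  have : QuasiCompact f := inferInstance
  have : CompactSpace (pullback f t₀ : Scheme.{u}) :=
    QuasiCompact.compactSpace_of_compactSpace (pullback.snd f t₀)
  let r : Over i₀ := Over.mk (𝟙 i₀)
  let h : c.pt ⟶ (LimTop61.bcCone D c a q p hqp.w).pt := pullback.diagonal f
  have : IsClosedImmersion h := inferInstanceAs (IsClosedImmersion (pullback.diagonal f))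
  have : LocallyOfFiniteType (h ≫ (LimTop61.bcCone D c a q p hqp.w).π.app r) := by
    have : LocallyOfFiniteType ((h ≫ (LimTop61.bcCone D c a q p hqp.w).π.app r) ≫
        (pullback.fst a (D.map r.hom) ≫ pullback.fst f t₀)) := by
      have e : (h ≫ (LimTop61.bcCone D c a q p hqp.w).π.app r) ≫
          (pullback.fst a (D.map r.hom) ≫ pullback.fst f t₀) = 𝟙 c.pt := by
        simp [h, q, r, p, pullback.map, pullback.diagonal]
      rw [e]; infer_instance
    exact locallyOfFiniteType_of_comp _ (pullback.fst a (D.map r.hom) ≫ pullback.fst f t₀)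
  obtain ⟨j, -, hj⟩ := exists_isClosedImmersion_stage (LimTop61.bcDiagram D a)
    (LimTop61.bcCone D c a q p hqp.w) hlim r h
  refine ⟨j.left, ?_⟩
  let tk : D.obj j.left ⟶ S := t.app j.left
  have htk : D.map j.hom ≫ t₀ = tk := by simp [t₀, tk]
  have hf : c.π.app j.left ≫ tk = f := by rw [← htk, ← Category.assoc, c.w]
  let g : pullback tk tk ⟶ D.obj j.left := pullback.fst tk tk
  let π : c.pt ⟶ D.obj j.left := c.π.app j.left
  have hcond : pullback.snd g π ≫ f = (pullback.fst g π ≫ pullback.snd tk tk) ≫ tk := by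
    rw [← hf, ← Category.assoc]
    change (pullback.snd g π ≫ π) ≫ tk = _
    rw [← pullback.condition, Category.assoc, Category.assoc, pullback.condition]
  let n₀ : pullback g π ⟶ pullback f t₀ :=
    pullback.lift (pullback.snd g π) (pullback.fst g π ≫ pullback.snd tk tk ≫ D.map j.hom) (by
      rw [hcond]; simp only [Category.assoc, htk])
  let n : pullback g π ⟶ pullback a (D.map j.hom) :=
    pullback.lift n₀ (pullback.fst g π ≫ pullback.snd tk tk) (by
      simp [a, n₀, pullback.lift_snd])
  have hn1 : n ≫ pullback.fst a (D.map j.hom) ≫ pullback.fst f t₀ = pullback.snd g π := by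
    simp [n, n₀, pullback.lift_fst_assoc]
  have hn2 : n ≫ pullback.snd a (D.map j.hom) = pullback.fst g π ≫ pullback.snd tk tk :=
    pullback.lift_snd _ _ _
  have : Mono n := ⟨fun {Z} u v e => by
    have e1 : u ≫ pullback.snd g π = v ≫ pullback.snd g π := by
      rw [← hn1, reassoc_of% e]
    have e2 : u ≫ pullback.fst g π ≫ pullback.snd tk tk = v ≫ pullback.fst g π ≫ pullback.snd tk tk := by
      rw [← hn2, reassoc_of% e]
    refine pullback.hom_ext (pullback.hom_ext ?_ (by simpa using e2)) e1
    simp only [Category.assoc]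
    rw [show pullback.fst tk tk = g from rfl, pullback.condition, reassoc_of% e1]⟩
  have e : pullback.lift (π ≫ pullback.diagonal tk) (𝟙 c.pt) (by simp [g]) ≫ n =
      h ≫ (LimTop61.bcCone D c a q p hqp.w).π.app j := by
    apply pullback.hom_ext
    · simp only [n, Category.assoc, pullback.lift_fst]
      apply pullback.hom_ext
      · simp [n₀, h, q, pullback.map, pullback.diagonal, a, g, π]
      · simp [n₀, h, q, π, pullback.map, pullback.diagonal, a, g]
    · simp [n, n₀, h, p, π, q, pullback.map, pullback.diagonal, a, g]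
  have : IsClosedImmersion (pullback.lift (π ≫ pullback.diagonal tk) (𝟙 c.pt) (by simp [g]) ≫ n) := by
    rw [e]; exact hj
  exact IsClosedImmersion.of_comp _ n

include hc in
theorem exists_isSeparated_structureMap [IsSeparated (c.π.app i₀ ≫ t.app i₀)] :
    ∃ i₁ : I, ∀ (i : I) (_ : i ⟶ i₁), IsSeparated (t.app i) := by
  obtain ⟨k, hk⟩ := exists_stage_graph_isClosedImmersion S D t c hc i₀
  let tk : D.obj k ⟶ S := t.app k
  have : QuasiSeparated tk := (quasiSeparated_iff_quasiSeparatedSpace tk).mpr inferInstance
  have : QuasiCompact tk := inferInstance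
  let g : pullback tk tk ⟶ D.obj k := pullback.fst tk tk
  have : QuasiCompact g := inferInstanceAs (QuasiCompact (pullback.fst tk tk))
  have : QuasiSeparated g := inferInstanceAs (QuasiSeparated (pullback.fst tk tk))
  have : CompactSpace (pullback tk tk : Scheme.{u}) := QuasiCompact.compactSpace_of_compactSpace g
  have : QuasiSeparatedSpace (pullback tk tk : Scheme.{u}) := quasiSeparatedSpace_of_quasiSeparated g
  let δ : D.obj k ⟶ pullback tk tk := pullback.diagonal tk
  have hδ : δ ≫ g = 𝟙 _ := pullback.diagonal_fst tk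
  have : QuasiCompact (δ ≫ g) := by rw [hδ]; infer_instance
  have : QuasiCompact δ := QuasiCompact.of_comp δ g
  have : Mono δ := mono_of_mono_fac hδ
  have : LocallyOfFiniteType (δ ≫ g) := by rw [hδ]; infer_instance
  have hlft : LocallyOfFiniteType δ := locallyOfFiniteType_of_comp δ g
  have := respectsIso_lft.{u}
  have := respectsIso_isClosedImmersion.{u}
  obtain ⟨j, φ, hj⟩ := descProp_isClosedImmersion.rel D c hc k g δ hlft
    ((prop_iff_of_isPullback (graph_isPullback tk (c.π.app k))).mp hk)
  have hΓ := (prop_iff_of_isPullback (P := @IsClosedImmersion) (graph_isPullback tk (D.map φ))).mpr hj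
  refine ⟨j, fun i ψ => ?_⟩
  suffices IsSeparated (t.app j) by
    have e : t.app i = D.map ψ ≫ t.app j := by simp
    have : IsSeparated (D.map ψ) := IsSeparated.of_isAffineHom (f := D.map ψ)
    rw [e]; infer_instance
  let tj : D.obj j ⟶ S := t.app j
  have etj : tj = D.map φ ≫ tk := by simp [tj, tk]
  let M : pullback tj tj ⟶ pullback tk tk :=
    pullback.map tj tj tk tk (D.map φ) (D.map φ) (𝟙 S) (by simp [etj]) (by simp [etj])
  have : IsAffineHom M :=
    MorphismProperty.pullback_map (P := @IsAffineHom) (i₁ := D.map φ) (i₂ := D.map φ)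
      inferInstance inferInstance etj etj
  have : IsSeparated M := IsSeparated.of_isAffineHom (f := M)
  let m : pullback tj tj ⟶ pullback g (D.map φ) :=
    pullback.lift M (pullback.fst tj tj) (by simp [M, g, pullback.map])
  have hm : m ≫ pullback.fst g (D.map φ) = M := pullback.lift_fst _ _ _
  have : IsSeparated (m ≫ pullback.fst g (D.map φ)) := by rw [hm]; infer_instance
  have : IsSeparated m := IsSeparated.of_comp m (pullback.fst g (D.map φ))
  have e : pullback.diagonal tj ≫ m =
      pullback.lift (D.map φ ≫ pullback.diagonal tk) (𝟙 _) (by simp [g, pullback.diagonal]) := by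
    apply pullback.hom_ext
    · simp only [Category.assoc, hm, pullback.lift_fst]
      apply pullback.hom_ext <;> simp [M, pullback.map, pullback.diagonal]
    · simp [m, pullback.diagonal]
  have : IsClosedImmersion (pullback.diagonal tj ≫ m) := by rw [e]; exact hΓ
  exact ⟨IsClosedImmersion.of_comp (pullback.diagonal tj) m⟩

theorem S0592 (D : I ⥤ Scheme.{u}) (c : Cone D) (hc : IsLimit c)
    [∀ (i j : I) (f : i ⟶ j), IsAffineHom (D.map f)] [∀ i, CompactSpace (D.obj i)]
    [∀ i, QuasiSeparatedSpace (D.obj i)]
    [hs : IsSeparated (Limits.IsTerminal.from specULiftZIsTerminal c.pt)] :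
    ∃ i₀ : I, ∀ (i : I) (_ : i ⟶ i₀),
      IsSeparated (Limits.IsTerminal.from specULiftZIsTerminal (D.obj i)) := by
  obtain ⟨i₀⟩ := IsCofiltered.nonempty (C := I)
  let t : D ⟶ (Functor.const I).obj (Spec (CommRingCat.of (ULift.{u} ℤ))) :=
    { app := fun i => Limits.IsTerminal.from specULiftZIsTerminal (D.obj i)
      naturality := fun _ _ _ => specULiftZIsTerminal.hom_ext _ _ }
  have e : c.π.app i₀ ≫ t.app i₀ = Limits.IsTerminal.from specULiftZIsTerminal c.pt :=
    specULiftZIsTerminal.hom_ext _ _
  have : IsSeparated (c.π.app i₀ ≫ t.app i₀) := e ▸ hs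
  exact exists_isSeparated_structureMap _ D t c hc i₀

end Groth.Agent.Lim60
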