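import Groth.Agent.Lim60.ClosedImmStage
import Mathlib.AlgebraicGeometry.Morphisms.Immersion

set_option autoImplicit false
set_option backward.isDefEq.respectTransparency false
set_option backward.defeqAttrib.useBackward true

/-! Affine, closed-immersion and immersion structure maps at the stages of a limit over a base. -/

universe u

open CategoryTheory CategoryTheory.Limits AlgebraicGeometry Opposite
open Groth.Agent.LimDesc62

namespace Groth.Agent.Lim60

theorem exists_finite_affine_cover (S : Scheme.{u}) [CompactSpace S] :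
    ∃ (J : Type u) (_ : Finite J) (W : J → S.Opens), (∀ j, IsAffineOpen (W j)) ∧ ⨆ j, W j = ⊤ := by
  obtain ⟨s, hs, e⟩ := (isCompact_iff_finite_and_eq_biUnion_affineOpens (U := (⊤ : S.Opens))).mp
    (isCompact_univ : IsCompact (Set.univ : Set S))
  refine ⟨s, hs.to_subtype, fun j => j.1.1, fun j => j.1.2, ?_⟩
  rw [e, iSup_subtype']

variable {I : Type u} [SmallCategory I] [IsCofiltered I] (S : Scheme.{u})
  (D : I ⥤ Scheme.{u}) (t : D ⟶ (Functor.const I).obj S) (c : Cone D) (hc : IsLimit c)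
  [∀ (i j : I) (a : i ⟶ j), IsAffineHom (D.map a)]

lemma map_preimage_structureMap {i j : I} (a : j ⟶ i) (W : S.Opens) :
    D.map a ⁻¹ᵁ (t.app i ⁻¹ᵁ W) = t.app j ⁻¹ᵁ W := by
  have e : D.map a ≫ t.app i = t.app j := by simp
  rw [← Scheme.Hom.comp_preimage, e]

include hc in
theorem exists_isAffineOpen_preimage [QuasiSeparatedSpace S] [∀ i, CompactSpace (D.obj i)]
    [∀ i, QuasiSeparatedSpace (D.obj i)] (i₀ : I) [IsAffineHom (c.π.app i₀ ≫ t.app i₀)]
    {W : S.Opens} (hW : IsAffineOpen W) :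
    ∃ (m : I) (_ : m ⟶ i₀), IsAffineOpen (t.app m ⁻¹ᵁ W) := by
  obtain ⟨k, V, hV, e⟩ := exists_isAffineOpen_preimage_eq D c hc _ (hW.preimage (c.π.app i₀ ≫ t.app i₀))
  obtain ⟨m, a, b, -⟩ := IsCofilteredOrEmpty.cone_objs i₀ k
  let tm : D.obj m ⟶ S := t.app m
  have h1 : IsCompact (tm ⁻¹ᵁ W : Set (D.obj m)) := by
    have : QuasiCompact tm := inferInstance
    exact QuasiCompact.isCompact_preimage (f := tm) _ W.2 hW.isCompact
  have h2 : c.π.app m ⁻¹ᵁ (D.map b ⁻¹ᵁ V) = c.π.app m ⁻¹ᵁ (t.app m ⁻¹ᵁ W) := by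
    rw [← Scheme.Hom.comp_preimage, c.w, e, ← map_preimage_structureMap S D t a, ← Scheme.Hom.comp_preimage,
      ← Scheme.Hom.comp_preimage, ← c.w a]
  obtain ⟨n, ψ, hn⟩ := exists_map_preimage_eq_map_preimage D c hc (hV.preimage _).isCompact h1 h2
  refine ⟨n, ψ ≫ a, ?_⟩
  rw [← map_preimage_structureMap S D t ψ]
  exact hn ▸ (hV.preimage _).preimage _

include hc in
theorem exists_isAffineHom_structureMap [CompactSpace S] [QuasiSeparatedSpace S]
    [∀ i, CompactSpace (D.obj i)] [∀ i, QuasiSeparatedSpace (D.obj i)] (i₀ : I)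
    [IsAffineHom (c.π.app i₀ ≫ t.app i₀)] :
    ∃ i₁ : I, ∀ (i : I) (_ : i ⟶ i₁), IsAffineHom (t.app i) := by
  obtain ⟨J, _, W, hW, hW'⟩ := exists_finite_affine_cover S
  choose m φ hm using fun j => exists_isAffineOpen_preimage S D t c hc i₀ (hW j)
  obtain ⟨n, ψ, χ, -⟩ := DescProp.exists_common φ
  refine ⟨n, fun i a => isAffineHom_of_forall_exists_isAffineOpen (f := t.app i) fun x => ?_⟩
  obtain ⟨j, hj⟩ := TopologicalSpace.Opens.mem_iSup.mp (hW'.ge (Set.mem_univ x))
  exact ⟨W j, hj, hW j, map_preimage_structureMap S D t (a ≫ χ j) (W j) ▸ (hm j).preimage _⟩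

include hc in
theorem exists_app_surjective (i : I) [IsAffineHom (t.app i)] [LocallyOfFiniteType (t.app i)]
    [IsClosedImmersion (c.π.app i ≫ t.app i)] (hcl : ∀ (i j : I) (a : i ⟶ j), IsClosedImmersion (D.map a))
    {W : S.Opens} (hW : IsAffineOpen W) :
    ∃ (m : I) (_ : m ⟶ i), ∀ (n : I) (_ : n ⟶ m), Function.Surjective ((t.app n).app W) := by
  let ti : D.obj i ⟶ S := t.app i
  have : IsAffineHom ti := ‹IsAffineHom (t.app i)›
  have : LocallyOfFiniteType ti := ‹LocallyOfFiniteType (t.app i)›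
  have hV : IsAffineOpen (ti ⁻¹ᵁ W) := hW.preimage ti
  have hft : (ti.app W).hom.FiniteType := by
    have := ti.finiteType_appLE hW hV le_rfl
    rwa [← Scheme.Hom.app_eq_appLE] at this
  let _ := (ti.app W).hom.toAlgebra
  obtain ⟨s, hs⟩ := hft.out
  have hgen : Subring.closure (Set.range (ti.app W).hom ∪ s) = ⊤ := by
    have := congrArg Subalgebra.toSubring hs
    rw [Algebra.adjoin_eq_ring_closure] at this
    simpa [RingHom.algebraMap_toAlgebra] using this
  have key : ∀ x ∈ s, ∃ (j : I) (f : j ⟶ i) (w : Γ(S, W)),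
      (D.map f).app _ x = (D.map f).app _ (ti.app W w) := by
    intro x _
    obtain ⟨w, hw⟩ := (c.π.app i ≫ ti).app_surjective W hW ((c.π.app i).app _ x)
    obtain ⟨j, f, hf⟩ := exists_app_map_eq_map_of_isLimit D c hc hV.isCompact x (ti.app W w) hw.symm
    exact ⟨j, f, w, hf⟩
  choose j f w hw using fun x : s => key x.1 x.2
  obtain ⟨m, φ, χ, hχ⟩ := DescProp.exists_common f
  refine ⟨m, φ, fun n a => ?_⟩
  let g := D.map (a ≫ φ)
  have : IsClosedImmersion g := hcl _ _ _
  have hgs : Function.Surjective (g.app (ti ⁻¹ᵁ W)) := g.app_surjective _ hV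
  have hle : Subring.closure (Set.range (ti.app W).hom ∪ s) ≤
      (((g ≫ ti).app W).hom.range).comap (g.app (ti ⁻¹ᵁ W)).hom := by
    rw [Subring.closure_le]
    rintro x (⟨r, rfl⟩ | hx)
    · exact ⟨r, rfl⟩
    · refine ⟨w ⟨x, hx⟩, ?_⟩
      have e : g = D.map (a ≫ χ ⟨x, hx⟩) ≫ D.map (f ⟨x, hx⟩) := by
        rw [← D.map_comp, Category.assoc, hχ]
      show g.app _ (ti.app W (w ⟨x, hx⟩)) = g.app _ x
      rw [Scheme.Hom.congr_app e]
      simp only [Scheme.Hom.comp_app, ConcreteCategory.comp_apply]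
      rw [hw ⟨x, hx⟩]
  have hs' : Function.Surjective ((g ≫ ti).app W) := fun y => by
    obtain ⟨x, rfl⟩ := hgs y
    exact hle (hgen ▸ Subring.mem_top x)
  have e : t.app n = g ≫ ti := by simp [g, ti]
  rw [Scheme.Hom.congr_app e]
  intro y
  obtain ⟨z, rfl⟩ := (ConcreteCategory.bijective_of_isIso ((D.obj n).presheaf.map (eqToHom (by rw [e])).op)).surjective y
  obtain ⟨w, rfl⟩ := hs' z
  exact ⟨w, rfl⟩

omit [∀ (i j : I) (a : i ⟶ j), IsAffineHom (D.map a)] in
theorem isClosedImmersion_of_cover {X Y : Scheme.{u}} (g : X ⟶ Y) [IsAffineHom g] {J : Type*}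
    (W : J → Y.Opens) (hW : ∀ j, IsAffineOpen (W j)) (hW' : ⨆ j, W j = ⊤)
    (h : ∀ j, Function.Surjective (g.app (W j))) : IsClosedImmersion g := by
  refine IsZariskiLocalAtTarget.of_iSup_eq_top (P := @IsClosedImmersion) W hW' fun j => ?_
  have : IsAffine (W j) := hW j
  have : IsAffine (g ⁻¹ᵁ W j) := (hW j).preimage g
  refine IsClosedImmersion.of_surjective_of_isAffine _ ?_
  rw [morphismRestrict_appTop]
  intro y
  obtain ⟨z, rfl⟩ := (ConcreteCategory.bijective_of_isIso
    (X.presheaf.map (eqToHom (image_morphismRestrict_preimage g (W j) ⊤)).op)).surjective y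
  have key : ∀ V : Y.Opens, V = W j → Function.Surjective (g.app V) := by rintro V rfl; exact h j
  obtain ⟨w, rfl⟩ := key _ (Scheme.Opens.ι_image_top _) z
  exact ⟨w, rfl⟩

include hc in
theorem exists_isClosedImmersion_structureMap [CompactSpace S] [QuasiSeparatedSpace S]
    [∀ i, CompactSpace (D.obj i)] [∀ i, QuasiSeparatedSpace (D.obj i)]
    (hcl : ∀ (i j : I) (a : i ⟶ j), IsClosedImmersion (D.map a))
    [∀ i, LocallyOfFiniteType (t.app i)] (i₀ : I) [IsClosedImmersion (c.π.app i₀ ≫ t.app i₀)] :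
    ∃ i₁ : I, ∀ (i : I) (_ : i ⟶ i₁), IsClosedImmersion (t.app i) := by
  obtain ⟨i₁, h₁⟩ := exists_isAffineHom_structureMap S D t c hc i₀
  obtain ⟨k, a, b, -⟩ := IsCofilteredOrEmpty.cone_objs i₁ i₀
  have : IsAffineHom (t.app k) := h₁ k a
  have : IsClosedImmersion (c.π.app k ≫ t.app k) := by
    have e : c.π.app k ≫ t.app k = c.π.app i₀ ≫ t.app i₀ := by
      rw [← c.w b, Category.assoc]; simp
    rw [e]; infer_instance
  obtain ⟨J, _, W, hW, hW'⟩ := exists_finite_affine_cover S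
  choose m φ hm using fun j => exists_app_surjective S D t c hc k hcl (hW j)
  obtain ⟨n, ψ, χ, -⟩ := DescProp.exists_common φ
  refine ⟨n, fun i f => ?_⟩
  have : IsAffineHom (t.app i) := h₁ i (f ≫ ψ ≫ a)
  exact isClosedImmersion_of_cover (t.app i) W hW hW' fun j => hm j i (f ≫ χ j)

include hc in
theorem exists_isImmersion_structureMap [QuasiSeparatedSpace S]
    [∀ i, CompactSpace (D.obj i)] [∀ i, QuasiSeparatedSpace (D.obj i)]
    (hcl : ∀ (i j : I) (a : i ⟶ j), IsClosedImmersion (D.map a))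
    [∀ i, LocallyOfFiniteType (t.app i)] (i₀ : I) [IsImmersion (c.π.app i₀ ≫ t.app i₀)] :
    ∃ i₁ : I, ∀ (i : I) (_ : i ⟶ i₁), IsImmersion (t.app i) := by
  let f : c.pt ⟶ S := c.π.app i₀ ≫ t.app i₀
  have : IsImmersion f := ‹IsImmersion (c.π.app i₀ ≫ t.app i₀)›
  have : CompactSpace c.pt := Scheme.compactSpace_of_isLimit D c hc
  obtain ⟨s, hs⟩ := (isCompact_range f.continuous).elim_finite_subcover
    (fun V : {V : S.affineOpens // V.1 ≤ f.coborderRange} => (V.1.1 : Set S)) (fun V => V.1.1.2)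
    (by
      rintro _ ⟨x, rfl⟩
      have hx0 : f x ∈ f.coborderRange := subset_coborder (Set.mem_range_self x)
      obtain ⟨_, ⟨V, hV, rfl⟩, hxV, hle⟩ := S.isBasis_affineOpens.exists_subset_of_mem_open
        hx0 f.coborderRange.2
      exact Set.mem_iUnion.mpr ⟨⟨⟨V, hV⟩, fun y hy => hle hy⟩, hxV⟩)
  let U : S.Opens := ⨆ V ∈ s, V.1.1
  have hUc : IsCompact (U : Set S) := by
    simp only [U, TopologicalSpace.Opens.coe_iSup]
    exact s.finite_toSet.isCompact_biUnion fun V _ => V.1.2.isCompact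
  have hUle : U ≤ f.coborderRange := iSup₂_le fun V _ => V.2
  have hrange : f ⁻¹ᵁ U = ⊤ := by
    refine top_le_iff.mp fun x _ => ?_
    obtain ⟨V, hV, hx⟩ := Set.mem_iUnion₂.mp (hs ⟨x, rfl⟩)
    exact TopologicalSpace.Opens.mem_iSup.mpr ⟨V, TopologicalSpace.Opens.mem_iSup.mpr ⟨hV, hx⟩⟩
  obtain ⟨k, φ, hk⟩ := exists_map_eq_top D c hc (t.app i₀ ⁻¹ᵁ U) hrange
  rw [map_preimage_structureMap] at hk
  have hall : ∀ j : Over k, Set.range (t.app j.left) ⊆ Set.range U.ι := by
    intro j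
    rintro _ ⟨x, rfl⟩
    rw [Scheme.Opens.range_ι]
    have : D.map j.hom ⁻¹ᵁ (t.app k ⁻¹ᵁ U) = ⊤ := by rw [hk]; rfl
    rw [map_preimage_structureMap] at this
    exact this.ge (Set.mem_univ x)
  let t' : Over.forget k ⋙ D ⟶ (Functor.const (Over k)).obj (U : Scheme.{u}) :=
    { app := fun j => IsOpenImmersion.lift U.ι (t.app j.left) (hall j)
      naturality := fun j j' g => by
        rw [← cancel_mono U.ι]
        simp [IsOpenImmersion.lift_fac] }
  have : IsConnected (Over k) := CategoryTheory.isConnected_of_hasTerminal (Over k)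
  let c' := c.whisker (Over.forget k)
  have hc' : IsLimit c' := (Functor.Initial.isLimitWhiskerEquiv (Over.forget k) c).symm hc
  have : CompactSpace (U : Scheme.{u}) := isCompact_iff_compactSpace.mp hUc
  have : QuasiSeparatedSpace (U : Scheme.{u}) :=
    (isQuasiSeparated_iff_quasiSeparatedSpace _ U.2).mp (.of_quasiSeparatedSpace _)
  have : ∀ j : Over k, LocallyOfFiniteType (t'.app j) := fun j => by
    have : LocallyOfFiniteType (t'.app j ≫ U.ι) := by
      simp only [t', IsOpenImmersion.lift_fac]; infer_instance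
    exact locallyOfFiniteType_of_comp (t'.app j) U.ι
  have : ∀ (a b : Over k) (g : a ⟶ b), IsAffineHom ((Over.forget k ⋙ D).map g) := fun a b g =>
    inferInstanceAs (IsAffineHom (D.map g.left))
  have : ∀ j : Over k, CompactSpace ((Over.forget k ⋙ D).obj j) := fun j =>
    inferInstanceAs (CompactSpace (D.obj j.left))
  have : ∀ j : Over k, QuasiSeparatedSpace ((Over.forget k ⋙ D).obj j) := fun j =>
    inferInstanceAs (QuasiSeparatedSpace (D.obj j.left))
  let r : Over k := Over.mk (𝟙 k)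
  have : IsClosedImmersion (c'.π.app r ≫ t'.app r) := by
    have e : (c'.π.app r ≫ t'.app r) ≫ S.homOfLE hUle = f.liftCoborder := by
      rw [← cancel_mono f.coborderRange.ι]
      simp only [Category.assoc, Scheme.homOfLE_ι, Scheme.Hom.liftCoborder_ι, t', IsOpenImmersion.lift_fac]
      show c.π.app k ≫ t.app k = c.π.app i₀ ≫ t.app i₀
      rw [← c.w φ, Category.assoc]; simp
    have : IsClosedImmersion ((c'.π.app r ≫ t'.app r) ≫ S.homOfLE hUle) := by rw [e]; infer_instance
    exact IsClosedImmersion.of_comp _ (S.homOfLE hUle)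
  obtain ⟨j, hj⟩ := exists_isClosedImmersion_structureMap (U : Scheme.{u}) (Over.forget k ⋙ D) t' c' hc'
    (fun a b g => hcl _ _ _) r
  have := hj j (𝟙 j)
  have e : t'.app j ≫ U.ι = t.app j.left := IsOpenImmersion.lift_fac _ _ _
  have : IsImmersion (t.app j.left) := by rw [← e]; infer_instance
  refine ⟨j.left, fun i a => ?_⟩
  have : IsClosedImmersion (D.map a) := hcl _ _ _
  have e2 : t.app i = D.map a ≫ t.app j.left := by simp
  rw [e2]; infer_instance

end Groth.Agent.Lim60
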