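import Mathlib
import Groth.Agent.LimTop61.OpenMap
import Groth.Agent.LimTop61.Stalks

set_option autoImplicit false
set_option backward.isDefEq.respectTransparency.types false

universe u

open CategoryTheory CategoryTheory.Limits AlgebraicGeometry Opposite

namespace Groth.Agent.Lim60

theorem S9206 {I : Type u} [SmallCategory I] [IsCofiltered I]
    (D : I ⥤ Scheme.{u}) (c : Limits.Cone D) (hc : Limits.IsLimit c)
    [∀ (i j : I) (f : i ⟶ j), IsAffineHom (D.map f)] (s : c.pt) (a : c.pt.residueField s) :
    ∃ (i : I) (b : (D.obj i).residueField ((c.π.app i).base s)), ((c.π.app i).residueFieldMap s).hom b = a := by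
  obtain ⟨g, rfl⟩ := c.pt.residue_surjective s a
  obtain ⟨k, h, rfl⟩ := LimTop61.exists_stalkMap_π_eq D c hc s g
  refine ⟨k, (D.obj k).residue _ h, ?_⟩
  exact congr($(Scheme.residue_residueFieldMap (c.π.app k) s) h)

theorem S2152 {I : Type u} [SmallCategory I] [IsCofiltered I] (D : I ⥤ Scheme.{u})
    [∀ (i j : I) (f : i ⟶ j), IsAffineHom (D.map f)] (c : Limits.Cone D) (hc : Limits.IsLimit c) :
    Nonempty (Limits.IsLimit (Scheme.forgetToTop.mapCone c)) := by
  have hpt : ∀ (σ : Cone (D ⋙ Scheme.forgetToTop)) (x : σ.pt), ∃ t : c.pt, ∀ i, c.π.app i t = σ.π.app i x :=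
    fun σ x => LimTop61.exists_π_apply_eq D c hc (fun i => σ.π.app i x)
      (fun {i j} φ => congr($(σ.w φ) x))
  choose L hL using hpt
  have hcont : ∀ σ, Continuous (L σ) := fun σ => by
    rw [(LimTop61.isTopologicalBasis_preimage D c hc).continuous_iff]
    rintro _ ⟨i, V, -, rfl⟩
    have : L σ ⁻¹' (c.π.app i ⁻¹' (V : Set (D.obj i))) = σ.π.app i ⁻¹' (V : Set (D.obj i)) := by
      ext x
      simp only [Set.mem_preimage, hL]
    rw [this]
    exact V.2.preimage (σ.π.app i).hom.continuous
  refine ⟨⟨fun σ => TopCat.ofHom ⟨L σ, hcont σ⟩, fun σ i => ?_, fun σ m hm => ?_⟩⟩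
  · ext x
    exact hL σ x i
  · ext x
    refine LimTop61.eq_of_forall_π_apply_eq D c hc fun i => ?_
    exact (congr($(hm i) x) : _).trans (hL σ x i).symm

/-- A family of field extensions has a common overfield. -/
theorem exists_common_overfield (k : Type u) [Field k] {J : Type u} (L : J → Type u) [∀ i, Field (L i)]
    [∀ i, Algebra k (L i)] :
    ∃ (K : Type u) (_ : Field K) (_ : Algebra k K), ∀ i, Nonempty (L i →ₐ[k] K) := by
  have hB : ∀ i, ∃ B : Set (L i), IsTranscendenceBasis k ((↑) : B → L i) :=
    fun i => exists_isTranscendenceBasis k (L i)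
  choose B hB using hB
  let F := FractionRing (MvPolynomial (Σ i, B i) k)
  let K := AlgebraicClosure F
  refine ⟨K, inferInstance, inferInstance, fun i => ?_⟩
  let φ : MvPolynomial (B i) k →ₐ[k] K :=
    (IsScalarTower.toAlgHom k (MvPolynomial (Σ i, B i) k) K).comp (MvPolynomial.rename (fun b => (⟨i, b⟩ : Σ i, B i)))
  have hφ : Function.Injective φ := by
    show Function.Injective ((IsScalarTower.toAlgHom k (MvPolynomial (Σ i, B i) k) K) ∘ (MvPolynomial.rename (fun b => (⟨i, b⟩ : Σ i, B i))))
    refine Function.Injective.comp ?_ (MvPolynomial.rename_injective _ fun a b h => by simpa using h)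
    change Function.Injective (algebraMap (MvPolynomial (Σ i, B i) k) K)
    rw [IsScalarTower.algebraMap_eq (MvPolynomial (Σ i, B i) k) F K, RingHom.coe_comp]
    exact (algebraMap F K).injective.comp (IsFractionRing.injective _ F)
  let ψ : FractionRing (MvPolynomial (B i) k) →ₐ[k] K := IsFractionRing.liftAlgHom hφ
  let E := IntermediateField.adjoin k (Set.range ((↑) : B i → L i))
  let ψ' : E →ₐ[k] K := ψ.comp (hB i).1.aevalEquivField.symm.toAlgHom
  have : Algebra.IsAlgebraic E (L i) := (hB i).isAlgebraic_field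
  letI : Algebra E K := ψ'.toRingHom.toAlgebra
  have : IsScalarTower k E K := IsScalarTower.of_algebraMap_eq fun r => (ψ'.commutes r).symm
  exact ⟨(IsAlgClosed.lift : L i →ₐ[E] K).restrictScalars k⟩

theorem S7394 {S : Scheme.{u}} {I : Type u} (T : I → Over S)
    (hT : ∀ i, IsAffineHom (T i).hom ∧ Surjective (T i).hom) (c : Limits.Fan T) (hc : Limits.IsLimit c) :
    Surjective c.pt.hom := by
  refine ⟨fun s => ?_⟩
  choose t ht using fun i => (hT i).2.surj s
  subst_eqs
  let k := S.residueField s
  let f : ∀ i, k ⟶ (T i).left.residueField (t i) := fun i =>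
    (S.residueFieldCongr (ht i)).inv ≫ (T i).hom.residueFieldMap (t i)
  have hf : ∀ i, Spec.map (f i) ≫ S.fromSpecResidueField s =
      (T i).left.fromSpecResidueField (t i) ≫ (T i).hom := by
    intro i
    simp only [f, Spec.map_comp, Category.assoc]
    rw [Scheme.residueFieldCongr_inv, Scheme.residueFieldCongr_fromSpecResidueField,
      Scheme.Hom.SpecMap_residueFieldMap_fromSpecResidueField]
  letI : ∀ i, Algebra k ((T i).left.residueField (t i)) := fun i => (f i).hom.toAlgebra
  obtain ⟨K, _, _, hK⟩ := exists_common_overfield k (fun i => (T i).left.residueField (t i))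
  let σ : Over S := Over.mk (Spec.map (CommRingCat.ofHom (algebraMap k K)) ≫ S.fromSpecResidueField s)
  let p : ∀ i, σ ⟶ T i := fun i => Over.homMk
    (Spec.map (CommRingCat.ofHom (hK i).some.toRingHom) ≫ (T i).left.fromSpecResidueField (t i)) (by
      show _ = Spec.map (CommRingCat.ofHom (algebraMap k K)) ≫ S.fromSpecResidueField s
      rw [Category.assoc, ← hf, ← Spec.map_comp_assoc]
      congr 2
      ext r
      exact (hK i).some.commutes r)
  let l : σ ⟶ c.pt := hc.lift (Fan.mk σ p)
  refine ⟨l.left (IsLocalRing.closedPoint K), ?_⟩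
  rw [← Scheme.Hom.comp_apply, Over.w l]
  exact Scheme.fromSpecResidueField_apply s _

end Groth.Agent.Lim60
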