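import Groth.Agent.Approx60.DimDesc
import Groth.Agent.Approx60.ProperStage
import Groth.Agent.Approx60.ClosedLimit
import Groth.Agent.LimTop61.DimLim
import Groth.Agent.LimTop61.FgSubalgLimit
import Groth.Agent.E4O.FibreComp
import Groth.Agent.E4O.BaseChangeDim
import Mathlib.RingTheory.FiniteType

/-!
# Noetherian models of proper morphisms with bounded fibre dimension

A proper morphism over an affine scheme with fibres of dimension at most `d` is a closed subscheme of
the base change of a proper morphism of Noetherian schemes with the same bound.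
-/

set_option autoImplicit false
set_option backward.isDefEq.respectTransparency false
set_option backward.defeqAttrib.useBackward true

universe u

open CategoryTheory CategoryTheory.Limits AlgebraicGeometry Opposite TopologicalSpace

noncomputable section

namespace Groth.Agent.Lim60

/-- The fibre bound passes to base changes. -/
theorem dim_fiber_le_of_isPullback {P X Y Y' : Scheme.{u}} {p : P ⟶ X} {q : P ⟶ Y'} {f : X ⟶ Y}
    {g : Y' ⟶ Y} [LocallyOfFiniteType f] (hsq : IsPullback p q f g) {d : ℕ} (y : Y')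
    (hd : topologicalKrullDim ↥(f.fiber (g y)) ≤ d) : topologicalKrullDim ↥(q.fiber y) ≤ d := by
  have : LocallyOfFiniteType q := MorphismProperty.of_isPullback hsq inferInstance
  refine (E4O.dim_fiber_le_iff q y _).2 fun a ha => ?_
  refine le_trans (by exact_mod_cast E4O.fdeg_le_of_isPullback hsq a) ((E4O.dim_fiber_le_iff f _ _).1 hd (p a) ?_)
  rw [← Scheme.Hom.comp_apply, hsq.w, Scheme.Hom.comp_apply, ha]

/-- A closed subscheme with bounded fibres lies in a finitely presented one. -/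
theorem exists_fp_closed_fibre_dim_le {X S Z : Scheme.{u}} [CompactSpace S]
    [QuasiSeparatedSpace S] (f : X ⟶ S) [LocallyOfFinitePresentation f] [QuasiCompact f]
    [QuasiSeparated f] (d : ℕ) (ι : Z ⟶ X) [IsClosedImmersion ι]
    (hZ : ∀ s : S, topologicalKrullDim ↥((ι ≫ f).fiber s) ≤ d) :
    ∃ (Z' : Scheme.{u}) (ι' : Z' ⟶ X) (k : Z ⟶ Z'), IsClosedImmersion ι' ∧
      LocallyOfFinitePresentation ι' ∧ IsClosedImmersion k ∧ k ≫ ι' = ι ∧
      ∀ s : S, topologicalKrullDim ↥((ι' ≫ f).fiber s) ≤ d := by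
  have : CompactSpace X := QuasiCompact.compactSpace_of_compactSpace f
  have : QuasiSeparatedSpace X := quasiSeparatedSpace_of_quasiSeparated f
  obtain ⟨α, _, _, _, D, π, ⟨hl⟩, hobj, hmap, hπ⟩ := Approx60.exists_closed_limit ι
  have : IsConnected αᵒᵖ := IsCofiltered.isConnected _
  let DS : αᵒᵖ ⥤ Scheme.{u} := (Functor.const αᵒᵖ).obj S
  let φ : D ⋙ Over.forget X ⟶ DS :=
    { app := fun i => (D.obj i).hom ≫ f
      naturality := fun i j a => by simp [DS] }
  let cS : Cone DS := ⟨S, 𝟙 _⟩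
  have hS : IsLimit cS := isLimitConstCone αᵒᵖ S
  have hcl : ∀ (i j : αᵒᵖ) (a : i ⟶ j),
      IsClosedImmersion (pullback.lift ((D ⋙ Over.forget X).map a) (φ.app i) (φ.naturality a)) := by
    intro i j a
    have h1 : pullback.lift ((D ⋙ Over.forget X).map a) (φ.app i) (φ.naturality a) ≫
        pullback.fst (φ.app j) (DS.map a) = (D.map a).left := pullback.lift_fst _ _ _
    have : IsClosedImmersion (pullback.lift ((D ⋙ Over.forget X).map a) (φ.app i) (φ.naturality a) ≫
        pullback.fst (φ.app j) (DS.map a)) := by rw [h1]; exact hmap i j a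
    have : IsIso (DS.map a) := inferInstanceAs (IsIso (𝟙 S))
    exact IsClosedImmersion.of_comp _ (pullback.fst (φ.app j) (DS.map a))
  have : ∀ i, LocallyOfFiniteType (φ.app i) := fun i => by
    have := (hobj i).1; exact inferInstanceAs (LocallyOfFiniteType ((D.obj i).hom ≫ f))
  have : ∀ i, QuasiCompact (φ.app i) := fun i => by
    have := (hobj i).1; exact inferInstanceAs (QuasiCompact ((D.obj i).hom ≫ f))
  have : ∀ (i j : αᵒᵖ) (a : i ⟶ j), IsAffineHom (DS.map a) := fun i j a =>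
    inferInstanceAs (IsAffineHom (𝟙 S))
  have : ∀ i, CompactSpace (DS.obj i) := fun i => inferInstanceAs (CompactSpace S)
  obtain ⟨i, hi⟩ := LimTop61.exists_fibre_dim_le_stage φ _ cS
    (isLimitOfPreserves (Over.forget X) hl) hS hcl (ι ≫ f) (fun i => by
      simp only [cS, φ, NatTrans.id_app]
      refine (Category.comp_id _).trans ?_
      exact ((reassoc_of% (Over.w (π.app i))) f).symm) d hZ
  exact ⟨(D.obj i).left, (D.obj i).hom, (π.app i).left, (hobj i).1, (hobj i).2, hπ i,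
    Over.w (π.app i), hi⟩

/-- Proper morphisms over affine schemes with fibres of dimension at most `d` come from Noetherian
ones with the same bound, up to a closed immersion. -/
theorem exists_model_fibre_dim_le {A : CommRingCat.{u}} {X : Scheme.{u}} (f : X ⟶ Spec A) [IsProper f]
    (d : ℕ) (hd : ∀ y, topologicalKrullDim ↥(f.fiber y) ≤ d) :
    ∃ (X₁ : Scheme.{u}) (i : X ⟶ X₁) (f₁ : X₁ ⟶ Spec A) (A₀ : CommRingCat.{u}) (X₀ : Scheme.{u})
      (f₀ : X₀ ⟶ Spec A₀) (g : X₁ ⟶ X₀) (s : Spec A ⟶ Spec A₀),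
      IsClosedImmersion i ∧ i ≫ f₁ = f ∧ IsNoetherianRing A₀ ∧ IsProper f₀ ∧
        IsPullback g f₁ f₀ s ∧ ∀ y, topologicalKrullDim ↥(f₀.fiber y) ≤ d := by
  obtain ⟨K, _, _, Dp, cp, -, ep, -, hp⟩ := Approx60.exists_proper_fp_closed_limit f
  obtain ⟨k₀⟩ := IsCofiltered.nonempty (C := K)
  have : IsProper (Dp.obj k₀).hom := (hp k₀).2.1
  have : LocallyOfFinitePresentation (Dp.obj k₀).hom := (hp k₀).2.2
  have : IsClosedImmersion (ep.inv ≫ cp.π.app k₀).left := by
    have := (hp k₀).1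
    show IsClosedImmersion (ep.inv.left ≫ (cp.π.app k₀).left)
    infer_instance
  have hi₁ : (ep.inv ≫ cp.π.app k₀).left ≫ (Dp.obj k₀).hom = f := Over.w (ep.inv ≫ cp.π.app k₀)
  obtain ⟨X₁, ι', i, hι', hι'', hi, hik, hd₁⟩ := exists_fp_closed_fibre_dim_le (Dp.obj k₀).hom d
    (ep.inv ≫ cp.π.app k₀).left (by rw [hi₁]; exact hd)
  obtain ⟨f₁, hf₁def⟩ : ∃ f₁ : X₁ ⟶ Spec A, f₁ = ι' ≫ (Dp.obj k₀).hom := ⟨_, rfl⟩
  have : IsProper f₁ := hf₁def ▸ inferInstance
  have : LocallyOfFinitePresentation f₁ := hf₁def ▸ inferInstance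
  rw [← hf₁def] at hd₁
  have hf₁ : i ≫ f₁ = f := by
    rw [hf₁def, ← Category.assoc, hik]
    exact hi₁
  let Z : CommRingCat.{u} := CommRingCat.of (ULift.{u} ℤ)
  letI : Algebra Z A := ((algebraMap ℤ A).comp ULift.ringEquiv.toRingHom).toAlgebra
  haveI : IsDirectedOrder (LimTop61.FgSubalg Z A) :=
    ⟨fun S T => ⟨⟨S.1 ⊔ T.1, S.2.sup T.2⟩, le_sup_left (a := S.1), le_sup_right (a := S.1)⟩⟩
  haveI : Nonempty (LimTop61.FgSubalg Z A) := ⟨⟨⊥, Subalgebra.fg_bot⟩⟩
  haveI : IsFiltered (LimTop61.FgSubalg Z A) := isFiltered_of_directed_le_nonempty _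
  let D := LimTop61.subalgSpec Z A
  let c := LimTop61.subalgCone Z A
  let hc := LimTop61.isLimitSubalgCone Z A
  have hN : ∀ j : (LimTop61.FgSubalg Z A)ᵒᵖ, IsNoetherianRing j.unop.1 := fun j => by
    have : IsNoetherianRing Z := isNoetherianRing_of_ringEquiv ℤ ULift.ringEquiv.symm
    have : Algebra.FiniteType Z j.unop.1 := (Subalgebra.fg_iff_finiteType _).1 j.unop.2
    exact Algebra.FiniteType.isNoetherianRing Z _
  have : ∀ j, CompactSpace (D.obj j) := fun j => inferInstance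
  have : ∀ j, QuasiSeparatedSpace (D.obj j) := fun j => inferInstance
  obtain ⟨k, Xk, fk, g, hk1, hk2, hk3, hpb⟩ := Approx60.S0591 D c hc X₁ f₁
  obtain ⟨l, ψ, hl'⟩ := Approx60.descProp_isProper.desc D c hc k fk
    (inferInstance : LocallyOfFiniteType fk) (by rw [← hpb.isoPullback_inv_snd]; infer_instance)
  let fl : pullback fk (D.map ψ) ⟶ D.obj l := pullback.snd fk (D.map ψ)
  have : IsProper fl := hl'
  let gl : X₁ ⟶ pullback fk (D.map ψ) := pullback.lift g (f₁ ≫ c.π.app l) (by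
    exact hpb.w.trans ((congrArg (f₁ ≫ ·) (c.w ψ).symm).trans (Category.assoc _ _ _).symm))
  have hgl : IsPullback gl f₁ fl (c.π.app l) := by
    refine IsPullback.of_right ?_ (pullback.lift_snd _ _ _) (IsPullback.of_hasPullback fk (D.map ψ))
    rw [pullback.lift_fst]
    exact (c.w ψ).symm ▸ hpb
  have : CompactSpace (pullback fk (D.map ψ) : Scheme.{u}) :=
    QuasiCompact.compactSpace_of_compactSpace fl
  have : QuasiSeparatedSpace (pullback fk (D.map ψ) : Scheme.{u}) :=
    quasiSeparatedSpace_of_quasiSeparated fl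
  haveI : IsIso (𝟙 c.pt) := IsIso.id _
  obtain ⟨j, φ, Xi, Yi, fi, gi, pY, pX, hY, hX, hdi⟩ := Approx60.S9195 D c hc l fl (𝟙 (D.obj l)) d
    f₁ (𝟙 c.pt) (c.π.app l) gl (IsPullback.of_vert_isIso ⟨(Category.comp_id _).trans (Category.id_comp _).symm⟩) hgl
    (fun x => (E4O.fibreDimAt_le_dim_fiber f₁ x).trans (hd₁ _))
  have : IsIso gi := MorphismProperty.of_isPullback (P := MorphismProperty.isomorphisms Scheme) hY
    (inferInstanceAs (IsIso (𝟙 (D.obj l))))
  have hpY : pY = gi ≫ D.map φ := by simpa using hY.w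
  have hX' : IsPullback pX (fi ≫ gi) fl (D.map φ) := by
    refine hX.of_iso (Iso.refl _) (Iso.refl _) (asIso gi) (Iso.refl _) ?_ ?_ ?_ ?_ <;>
      simp [hpY]
  let gj : X₁ ⟶ Xi := hX'.lift gl (f₁ ≫ c.π.app j) 
    (hgl.w.trans ((congrArg (f₁ ≫ ·) (c.w φ).symm).trans (Category.assoc _ _ _).symm))
  have hgj : IsPullback gj f₁ (fi ≫ gi) (c.π.app j) := by
    refine IsPullback.of_right ?_ (hX'.lift_snd _ _ _) hX'
    rw [hX'.lift_fst]
    exact (c.w φ).symm ▸ hgl
  have hfi : IsProper (fi ≫ gi) := MorphismProperty.of_isPullback hX' ‹IsProper fl›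
  refine ⟨X₁, i, f₁, CommRingCat.of j.unop.1, Xi, fi ≫ gi, gj, c.π.app j, hi, hf₁, hN j, hfi, hgj,
    fun y => (E4O.dim_fiber_le_iff (fi ≫ gi) y _).2 fun x _ => ?_⟩
  have : LocallyOfFiniteType fi := MorphismProperty.of_isPullback hX inferInstance
  refine le_trans ?_ (hdi x)
  refine le_trans ?_ (E4O.fdeg_le_fibreDimAt specializes_rfl rfl)
  have hsq : IsPullback (𝟙 Xi) (fi ≫ gi) fi (inv gi) := IsPullback.of_horiz_isIso ⟨by simp⟩
  exact_mod_cast E4O.fdeg_le_of_isPullback hsq x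

end Groth.Agent.Lim60
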