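import Groth.Agent.Lim60.FormalVan
import Groth.Agent.Lim60.DimModel
import Groth.Agent.QCFilt57.FPGen
import Groth.Agent.ZClos93.FiltColim
import Groth.Agent.TopCoh49.ColimCoh
import Groth.Agent.Coh69.AffinePush
import Groth.Agent.Coh69.OpenSub
import Groth.Agent.Coh69.RelVanish
import Groth.Agent.TopCoh49.StalkRpush
import Groth.Agent.QCqs72.Basic
import Groth.Agent.ValVan29.Vanish

/-!
# Vanishing of higher direct images of quasi-coherent modules above the fibre dimension
-/

set_option autoImplicit false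
set_option maxSynthPendingDepth 6
set_option linter.style.haveILetI false
set_option backward.isDefEq.respectTransparency.types false

universe u

noncomputable section

open CategoryTheory CategoryTheory.Limits AlgebraicGeometry TopologicalSpace Opposite

namespace Groth.Agent.Lim60

/-- Cohomology vanishes on a filtered colimit of modules with vanishing cohomology. -/
theorem subsingleton_hh_of_colimit {X : Scheme.{u}} [CompactSpace X] [QuasiSeparatedSpace X]
    {I : Type u} [SmallCategory I] [IsFiltered I] {D : I ⥤ X.Modules} {c : Cocone D} (hc : IsColimit c)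
    (p : ℕ) (h : ∀ i, Subsingleton (Coh.HH X (D.obj i) p)) : Subsingleton (Coh.HH X c.pt p) := by
  haveI := ZClos93.preservesColimits_toSheaf X.ringCatSheaf I
  let T := SheafOfModules.toSheaf X.ringCatSheaf
  haveI : PrespectralSpace X.toTopCat := inferInstanceAs (PrespectralSpace X)
  haveI : QuasiSeparatedSpace X.toTopCat := ‹QuasiSeparatedSpace X›
  haveI : CompactSpace X.toTopCat := ‹CompactSpace X›
  let K : I ⥤ CohTop.Ab X.toTopCat := D ⋙ T
  let e : colimit K ≅ (Coh.toAb c.pt : CohTop.Ab X.toTopCat) :=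
    (colimit.isColimit K).coconePointUniqueUpToIso (isColimitOfPreserves T hc)
  refine subsingleton_of_forall_eq 0 fun x => (TopCoh49.HEquivTop (X := X.toTopCat) (Coh.toAb c.pt) p).injective ?_
  rw [map_zero]
  obtain ⟨i, y, hy⟩ := (TopCoh49.colim_E (X := X.toTopCat) (U := ⊤)
    (by rw [Opens.coe_top]; exact isCompact_univ) p K).1
      (TopCoh49.emap e.inv p ⊤ (TopCoh49.HEquivTop (X := X.toTopCat) (Coh.toAb c.pt) p x))
  haveI : Subsingleton (CohTop.H (K.obj i) p) := h i
  have hy0 : y = 0 := (TopCoh49.HEquivTop (X := X.toTopCat) (K.obj i) p).symm.toEquiv.subsingleton.elim _ _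
  rw [hy0, map_zero] at hy
  have := congrArg (TopCoh49.emap e.hom p ⊤) hy
  rw [map_zero, TopCoh49.emap_emap, e.inv_hom_id] at this
  simpa using this.symm

/-- Cohomology of quasi-coherent modules over a Noetherian affine base vanishes above the fibre
dimension. -/
theorem subsingleton_hh_qcoh_noetherian {A : Type u} [CommRing A] [IsNoetherianRing A] {X : Scheme.{u}}
    [X.Over (Spec (CommRingCat.of A))] [IsProper (X ↘ Spec (CommRingCat.of A))] {d : ℕ}
    (hd : ∀ y, topologicalKrullDim ↥((X ↘ Spec (CommRingCat.of A)).fiber y) ≤ d)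
    (M : X.Modules) [M.IsQuasicoherent] {p : ℕ} (hp : d < p) : Subsingleton (Coh.HH X M p) := by
  haveI : CompactSpace X := QuasiCompact.compactSpace_of_compactSpace (X ↘ Spec (CommRingCat.of A))
  haveI : QuasiSeparatedSpace X :=
    quasiSeparatedSpace_of_quasiSeparated (X ↘ Spec (CommRingCat.of A))
  obtain ⟨I, _, _, D, c, hc, hfp, rfl⟩ := QCFilt57.exists_diagram M ‹_›
  exact subsingleton_hh_of_colimit hc p fun i =>
    subsingleton_hh_coh hd (D.obj i) (ValVan29.isCoh_of_isFP (hfp i)) hp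

/-- Cohomology of quasi-coherent modules on a proper scheme over an affine scheme vanishes above the
fibre dimension. -/
theorem subsingleton_hh_qcoh {A : CommRingCat.{u}} {X : Scheme.{u}} (f : X ⟶ Spec A) [IsProper f]
    {d : ℕ} (hd : ∀ y, topologicalKrullDim ↥(f.fiber y) ≤ d)
    (M : X.Modules) [M.IsQuasicoherent] {p : ℕ} (hp : d < p) : Subsingleton (Coh.HH X M p) := by
  obtain ⟨X₁, i, f₁, A₀, X₀, f₀, g, s, hi, -, hA₀, hf₀, hpb, hd₀⟩ := exists_model_fibre_dim_le f d hd
  haveI : IsAffineHom g := MorphismProperty.of_isPullback hpb.flip (isAffineHom_of_isAffine s)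
  letI : X₀.Over (Spec (CommRingCat.of A₀)) := ⟨f₀⟩
  haveI : IsProper (X₀ ↘ Spec (CommRingCat.of A₀)) := hf₀
  haveI : IsAffineHom (i ≫ g) := inferInstance
  haveI : ((Coh.push (i ≫ g)).obj M).IsQuasicoherent :=
    QCqs72.isQuasicoherent_pushforward (M := M) (i ≫ g)
  obtain ⟨e⟩ := Coh69.nonempty_hh_push (i ≫ g) M p
  haveI := subsingleton_hh_qcoh_noetherian (A := A₀) (X := X₀) hd₀ ((Coh.push (i ≫ g)).obj M) hp
  exact e.toEquiv.subsingleton

variable {X Y : Scheme.{u}} (f : X ⟶ Y) [IsProper f]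

/-- Over an affine open of the base, cohomology of the preimage vanishes above the fibre dimension. -/
theorem subsingleton_HE_preimage_of_fibre_dim {V : Y.Opens} (hV : IsAffineOpen V) {d : ℕ}
    (hd : ∀ y ∈ V, topologicalKrullDim ↥(f.fiber y) ≤ d) (M : X.Modules) [M.IsQuasicoherent] {p : ℕ}
    (hp : d < p) : Subsingleton (Coh69.HE (Coh.toAb M) p (f ⁻¹ᵁ V)) := by
  haveI : IsAffine V.toScheme := hV
  let g := (f ∣_ V) ≫ hV.isoSpec.hom
  have hsq : IsPullback (f ⁻¹ᵁ V).ι g f hV.fromSpec :=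
    (isPullback_morphismRestrict f V).flip.of_iso (Iso.refl _) (Iso.refl _) hV.isoSpec (Iso.refl _)
      (by simp) (by simp [g]) (by simp) (by rw [Iso.refl_hom, Category.comp_id]; exact hV.isoSpec_hom_fromSpec.symm)
  haveI : IsProper g := inferInstance
  haveI := subsingleton_hh_qcoh g (fun y => dim_fiber_le_of_isPullback hsq y
    (hd _ (hV.range_fromSpec.le (Set.mem_range_self y)))) (M.restrict (f ⁻¹ᵁ V).ι) hp
  obtain ⟨e⟩ := Coh69.nonempty_hhon M (f ⁻¹ᵁ V) p
  exact e.symm.toEquiv.subsingleton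

/-- Points with fibres of dimension at most `d` form an open set. -/
theorem exists_open_fibre_dim_le (y : Y) {d : ℕ} (hd : topologicalKrullDim ↥(f.fiber y) ≤ d) :
    ∃ U : Y.Opens, y ∈ U ∧ ∀ s ∈ U, topologicalKrullDim ↥(f.fiber s) ≤ d := by
  let Z : Set X := {x | (d : WithBot ℕ∞) < FlatMor.fibreDimAt f x}
  have hZ : IsClosed Z := by
    rw [← isOpen_compl_iff, isOpen_iff_forall_mem_open]
    intro x hx
    obtain ⟨U, hxU, hU⟩ := E4O.exists_open_forall_fibreDimAt_le f x
    exact ⟨U, fun z hz => not_lt.2 ((hU z hz).trans (not_lt.1 hx)), U.2, hxU⟩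
  refine ⟨⟨(f '' Z)ᶜ, (f.isClosedMap _ hZ).isOpen_compl⟩, ?_, fun s hs => ?_⟩
  · rintro ⟨x, hx, rfl⟩
    exact not_le.2 hx ((E4O.fibreDimAt_le_dim_fiber f x).trans hd)
  · refine (E4O.dim_fiber_le_iff f s d).2 fun x hx => le_trans (E4O.fdeg_le_fibreDimAt specializes_rfl rfl) ?_
    exact not_lt.1 fun h => hs ⟨x, h, hx⟩

/-- Higher direct images vanish above a bound on all fibre dimensions. -/
theorem isZero_RpushAb_of_fibre_dim {d : ℕ} (hd : ∀ y, topologicalKrullDim ↥(f.fiber y) ≤ d)
    (M : X.Modules) [M.IsQuasicoherent] {p : ℕ} (hp : d < p) :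
    IsZero ((Coh.RpushAb f p).obj (Coh.toAb M)) :=
  Coh69.isZero_RpushAb_of_subsingleton f _ _ fun U y hy => by
    obtain ⟨_, ⟨V, hV, rfl⟩, hyV, hVU⟩ := Y.isBasis_affineOpens.exists_subset_of_mem_open hy U.2
    exact ⟨V, hVU, hyV, subsingleton_HE_preimage_of_fibre_dim f hV (fun s _ => hd s) M hp⟩

/-- The stalk of a higher direct image vanishes above the dimension of the fibre. -/
theorem isZero_stalk_RpushAb (y : Y) {d : ℕ} (hd : topologicalKrullDim ↥(f.fiber y) ≤ d)
    (M : X.Modules) [M.IsQuasicoherent] {p : ℕ} (hp : d < p) :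
    IsZero (TopCat.Presheaf.stalk ((Coh.RpushAb f p).obj (Coh.toAb M)).obj y) := by
  obtain ⟨U, hyU, hU⟩ := exists_open_fibre_dim_le f y hd
  let P : TopCat.Presheaf AddCommGrpCat.{u} Y.toTopCat := TopCoh49.hPre f.base (Coh.toAb M) p
  haveI hsub : Subsingleton ↑(TopCat.Presheaf.stalk P y) :=
    subsingleton_of_forall_eq 0 fun t => by
      obtain ⟨W, hyW, s, rfl⟩ := TopCat.Presheaf.exists_germ_eq P t
      obtain ⟨_, ⟨(V : Y.Opens), hV, rfl⟩, (hyV : y ∈ V), hVsub⟩ :=
        Y.isBasis_affineOpens.exists_subset_of_mem_open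
          (show y ∈ ((show Y.Opens from W) : Set Y) ∩ (U : Set Y) from ⟨hyW, hyU⟩)
          ((show Y.Opens from W).2.inter U.2)
      haveI h0 : Subsingleton (P.obj (op V)) :=
        subsingleton_HE_preimage_of_fibre_dim f hV (fun s hs => hU s (hVsub hs).2) M hp
      rw [← TopCat.Presheaf.germ_res_apply P (homOfLE (fun z hz => (hVsub hz).1 : V ≤ W)) y hyV s]
      exact (congrArg _ (h0.elim _ 0)).trans (map_zero _)
  have := TopCat.Presheaf.stalkFunctor_map_unit_toSheafify_isIso y AddCommGrpCat.{u} P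
  exact (@AddCommGrpCat.isZero_of_subsingleton (TopCat.Presheaf.stalk P y : AddCommGrpCat.{u}) hsub).of_iso
    ((TopCat.Presheaf.stalkFunctor AddCommGrpCat.{u} y).mapIso
      ((sheafToPresheaf _ _).mapIso (TopCoh49.RpushIso f.base (Coh.toAb M) p)) ≪≫
    (@asIso _ _ _ _ _ this).symm)

end Groth.Agent.Lim60
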