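import Groth.Agent.Lim60.GenericFibre
import Groth.Agent.DCK91.PullStalk
import Groth.Agent.Desc59.QCohDesc
import Groth.Agent.FDesc60.ModFaith
import Groth.Agent.FlatMor68.PullbackDescent
import Groth.Agent.QC70.StalkLoc
import Groth.Agent.QC70.Closure
import Groth.Agent.QCqs72.Basic
import Groth.Agent.FlatMor68.FibreStalk
import Groth.Agent.E4O.DvrDom
import Groth.Prelude.Def_FlatMod2

/-!
# The flat quotient with prescribed generic fibre
-/

set_option autoImplicit false
set_option backward.isDefEq.respectTransparency.types false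
set_option linter.style.haveILetI false
universe u

open CategoryTheory CategoryTheory.Limits AlgebraicGeometry
open Groth.Agent.QC70 Groth.Agent.DCK91

namespace Groth.Agent.Lim60.FlatQuot

variable {X Y : Scheme.{u}} [IsIntegral Y] (f : X ⟶ Y)

lemma flat_fromSpecResidueField : Flat (Y.fromSpecResidueField (genericPoint Y)) := by
  rw [HasRingHomProperty.iff_appLE (P := @Flat)]
  rintro ⟨U, hU⟩ ⟨V, hV⟩ e
  by_cases hV0 : V = ⊥
  · subst hV0
    let φ := ((Y.fromSpecResidueField (genericPoint Y)).appLE U ⊥ e).hom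
    letI : Algebra Γ(Y, U) Γ(Spec (Y.residueField (genericPoint Y)), (⊥ : (Spec (Y.residueField (genericPoint Y))).Opens)) :=
      φ.toAlgebra
    show Module.Flat Γ(Y, U) Γ(Spec (Y.residueField (genericPoint Y)), (⊥ : (Spec (Y.residueField (genericPoint Y))).Opens))
    infer_instance
  · obtain ⟨v, hv⟩ : (V : Set ↥(Spec (Y.residueField (genericPoint Y)))).Nonempty :=
      Set.nonempty_iff_ne_empty.mpr fun h => hV0 (TopologicalSpace.Opens.ext h)
    have hη : genericPoint Y ∈ U := by
      have := e hv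
      rwa [Scheme.Hom.mem_preimage, Scheme.fromSpecResidueField_apply] at this
    haveI : Nonempty U := ⟨⟨_, hη⟩⟩
    have hVt : V = ⊤ := TopologicalSpace.Opens.ext (Set.eq_univ_of_forall fun w =>
      (Subsingleton.elim (α := PrimeSpectrum (Y.residueField (genericPoint Y))) v w) ▸ hv)
    subst hVt
    show RingHom.Flat ((Y.fromSpecResidueField (genericPoint Y)).appLE U ⊤ e).hom
    rw [show e = GenFib.preimage_eq_top hη from rfl, GenFib.fromSpecResidueField_appLE hU hη]
    simp only [CommRingCat.hom_comp]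
    refine RingHom.Flat.comp (RingHom.Flat.comp ?_ ?_) (RingHom.Flat.of_bijective (ConcreteCategory.bijective_of_isIso _))
    · have := functionField_isFractionRing_of_isAffineOpen Y U hU
      exact RingHom.flat_algebraMap_iff.mpr (IsLocalization.flat (Y.presheaf.stalk (genericPoint Y)) (nonZeroDivisors Γ(Y, U)))
    · have : IsField (Y.presheaf.stalk (genericPoint Y)) := Field.toIsField Y.functionField
      letI := this.toField
      exact RingHom.Flat.of_bijective ⟨(Y.residue (genericPoint Y)).hom.injective, Scheme.residue_surjective Y _⟩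

lemma flat_fiberι : Flat (f.fiberι (genericPoint Y)) :=
  MorphismProperty.pullback_fst (P := @Flat) _ _ flat_fromSpecResidueField

lemma apply_fiberι (z : f.fiber (genericPoint Y)) : f (f.fiberι (genericPoint Y) z) = genericPoint Y := by
  have h : f.fiberι (genericPoint Y) z ∈ Set.range (f.fiberι (genericPoint Y)) := ⟨_, rfl⟩
  rw [Scheme.Hom.range_fiberι] at h
  exact h

lemma bijective_pullη (G : X.Modules) (z : f.fiber (genericPoint Y)) :
    Function.Bijective (pullη (f.fiberι (genericPoint Y)) G z) := by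
  haveI := flat_fiberι f
  refine ⟨FDesc60.injective_pullη _ G z, fun w => ?_⟩
  let i := f.fiberι (genericPoint Y)
  letI := (i.stalkMap z).hom.toAlgebra
  letI := Module.compHom (((Scheme.Modules.pullback i).obj G).presheaf.stalk z) (i.stalkMap z).hom
  haveI : IsScalarTower (X.presheaf.stalk (i z)) ((f.fiber (genericPoint Y)).presheaf.stalk z)
      (((Scheme.Modules.pullback i).obj G).presheaf.stalk z) :=
    IsScalarTower.of_algebraMap_smul fun r e => rfl
  refine IsBaseChange.inductionOn (isBaseChange_pullη i G z) w (fun v => ∃ a, pullη i G z a = v)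
    ⟨0, map_zero _⟩ (fun a => ⟨a, rfl⟩) (fun s n hn => ?_) fun a b ha hb => ?_
  · obtain ⟨a, rfl⟩ := hn
    obtain ⟨r, rfl⟩ := FlatMor68.FibreStalk.fiberι_stalkMap_surjective f _ z s
    exact ⟨r • a, (pullη i G z).map_smul r a⟩
  · obtain ⟨a', rfl⟩ := ha
    obtain ⟨b', rfl⟩ := hb
    exact ⟨a' + b', map_add _ _ _⟩

variable {f}
variable {G : X.Modules} {G' : (f.fiber (genericPoint Y)).Modules}
  (j : G ⟶ (Scheme.Modules.pushforward (f.fiberι (genericPoint Y))).obj G')

lemma app_unit (W : X.Opens) (t : Γ(G, W)) :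
    (((Scheme.Modules.pullbackPushforwardAdjunction (f.fiberι (genericPoint Y))).homEquiv G G').symm j).app
      (f.fiberι (genericPoint Y) ⁻¹ᵁ W)
      (((Scheme.Modules.pullbackPushforwardAdjunction (f.fiberι (genericPoint Y))).unit.app G).app W t) =
    j.app W t := by
  let adj := Scheme.Modules.pullbackPushforwardAdjunction (f.fiberι (genericPoint Y))
  have h : adj.unit.app G ≫ (Scheme.Modules.pushforward (f.fiberι (genericPoint Y))).map ((adj.homEquiv G G').symm j) = j := by
    exact ((adj.homEquiv_unit (f := (adj.homEquiv G G').symm j)).symm).trans (Equiv.apply_symm_apply _ _)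
  exact congrArg (fun g => g.app W t) h

lemma stalkMap_pullη (z : f.fiber (genericPoint Y)) (a : G.presheaf.stalk (f.fiberι (genericPoint Y) z)) :
    stalkMapM (((Scheme.Modules.pullbackPushforwardAdjunction (f.fiberι (genericPoint Y))).homEquiv G G').symm j) z
      (pullη (f.fiberι (genericPoint Y)) G z a) =
    pushStalk (f.fiberι (genericPoint Y)) z G' (stalkMapM j _ a) := by
  obtain ⟨W, hW, t, rfl⟩ := germM_exist a
  rw [pullη_germ, stalkMapM_germ, stalkMapM_germ, pushStalk_germ, app_unit]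

lemma injective_pushStalk (N : (f.fiber (genericPoint Y)).Modules) (z : f.fiber (genericPoint Y)) :
    Function.Injective (pushStalk (f.fiberι (genericPoint Y)) z N) := by
  have := TopCat.Presheaf.stalkPushforward.stalkPushforward_iso_of_isInducing AddCommGrpCat.{u}
    (f.fiberι (genericPoint Y)).isEmbedding.isInducing N.presheaf z
  exact (ConcreteCategory.bijective_of_isIso (TopCat.Presheaf.stalkPushforward _
    (f.fiberι (genericPoint Y)).base N.presheaf z)).1

/-- The adjoint of a monomorphism into the direct image is a monomorphism. -/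
theorem mono_adjoint [Mono j] :
    Mono (((Scheme.Modules.pullbackPushforwardAdjunction (f.fiberι (genericPoint Y))).homEquiv G G').symm j) := by
  refine mono_of_injective_stalkMapM _ fun z v w h => ?_
  obtain ⟨a, rfl⟩ := (bijective_pullη f G z).2 v
  obtain ⟨b, rfl⟩ := (bijective_pullη f G z).2 w
  rw [stalkMap_pullη, stalkMap_pullη] at h
  exact congrArg _ (injective_stalkMapM_of_mono j _ (injective_pushStalk G' z h))

lemma isUnit_app {U : Y.Opens} {W : X.Opens} (e : W ≤ f ⁻¹ᵁ U) {a : Γ(Y, U)} (ha : a ≠ 0) :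
    IsUnit ((f.fiberι (genericPoint Y)).app W (f.appLE U W e a)) := by
  rw [Scheme.Hom.app_eq_appLE, ← ConcreteCategory.comp_apply, Scheme.Hom.appLE_comp_appLE]
  have hηD : genericPoint Y ∈ Y.basicOpen a := (GenFib.genericPoint_mem_iff _).mpr (by
    rw [Set.nonempty_iff_ne_empty]
    intro hemp
    exact ha ((basicOpen_eq_bot_iff a).mp (TopologicalSpace.Opens.ext hemp)))
  have e'' : f.fiberι (genericPoint Y) ⁻¹ᵁ W ≤ (f.fiberι (genericPoint Y) ≫ f) ⁻¹ᵁ Y.basicOpen a := fun z _ => by
    show (f.fiberι (genericPoint Y) ≫ f) z ∈ Y.basicOpen a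
    rw [Scheme.Hom.comp_apply, apply_fiberι]
    exact hηD
  rw [← Scheme.Hom.map_appLE _ e'' (homOfLE (Y.basicOpen_le a)).op, ConcreteCategory.comp_apply]
  exact (Y.toRingedSpace.isUnit_res_basicOpen a).map _

/-- Submodules of the direct image from the generic fibre are flat. -/
theorem isFlatOver_of_mono (hval : ∀ y : Y, ValuationRing (Y.presheaf.stalk y)) [Mono j] :
    FlatMod.IsFlatOver f G := by
  intro x
  letI := FlatMod.moduleStalkOver f G x
  haveI : ValuationRing (Y.presheaf.stalk (f x)) := hval _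
  show Module.Flat (Y.presheaf.stalk (f x)) (G.presheaf.stalk x)
  rw [Module.Flat.flat_iff_torsion_eq_bot_of_isBezout, eq_bot_iff]
  rintro g ⟨⟨a, ha⟩, hag⟩
  obtain ⟨W, hW, t, rfl⟩ := germM_exist g
  obtain ⟨U, hU, a, rfl⟩ := TopCat.Presheaf.exists_germ_eq Y.presheaf a
  have ha0 : a ≠ 0 := fun h => nonZeroDivisors.ne_zero ha (by rw [h, map_zero])
  have hW' : x ∈ W ⊓ f ⁻¹ᵁ U := ⟨hW, hU⟩
  have hag' : (f.stalkMap x).hom (Y.presheaf.germ U (f x) hU a) • germM G W x hW t = 0 := hag
  rw [← germM_res (inf_le_left : W ⊓ f ⁻¹ᵁ U ≤ W) hW' t, Scheme.Hom.germ_stalkMap_apply,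
    ← germ_resO (inf_le_right : W ⊓ f ⁻¹ᵁ U ≤ f ⁻¹ᵁ U) hW', ← germM_smul] at hag'
  obtain ⟨W'', hle, hxW'', h0⟩ := germM_eq_zero hag'
  have hWU : W'' ≤ f ⁻¹ᵁ U := hle.trans inf_le_right
  have h1 : f.appLE U W'' hWU a • res G (hle.trans inf_le_left) t = 0 := by
    rw [← h0, res_smul, res_res]
    congr 1
    show f.appLE U W'' hWU a = X.presheaf.map (homOfLE hle).op (X.presheaf.map _ (f.app U a))
    rw [← ConcreteCategory.comp_apply, ← ConcreteCategory.comp_apply, ← Functor.map_comp]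
    rfl
  have h2 := congrArg (j.app W'') h1
  rw [Scheme.Modules.Hom.app_smul, map_zero] at h2
  have h3 : j.app W'' (res G (hle.trans inf_le_left) t) = 0 := by
    rw [QCqs72.pushforward_smul] at h2
    exact (IsUnit.smul_eq_zero (M := Γ(G', f.fiberι (genericPoint Y) ⁻¹ᵁ W'')) (isUnit_app hWU ha0)).mp h2
  have h4 := app_injective_of_mono j W'' (h3.trans (map_zero _).symm)
  rw [Submodule.mem_bot, ← germM_res (hle.trans inf_le_left) hxW'' t, h4]
  exact germM_zero hxW''

/-- A flat module injects into the direct image of its generic fibre. -/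
theorem mono_of_isFlatOver [G.IsQuasicoherent] (hfl : FlatMod.IsFlatOver f G)
    [IsIso (((Scheme.Modules.pullbackPushforwardAdjunction (f.fiberι (genericPoint Y))).homEquiv G G').symm j)] :
    Mono j := by
  refine mono_of_injective_stalkMapM _ fun x => ?_
  refine (injective_iff_map_eq_zero ((TopCat.Presheaf.stalkFunctor _ x).map j.mapPresheaf).hom).mpr fun g hg => ?_
  obtain ⟨W, hW, t, rfl⟩ := germM_exist g
  obtain ⟨W₁, hle, hx₁, h0⟩ := germM_eq_zero ((stalkMapM_germ j hW t).symm.trans hg)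
  rw [← app_res] at h0
  obtain ⟨_, ⟨(U : Y.Opens), (hU : IsAffineOpen U), rfl⟩, (hxU : f x ∈ U), -⟩ :=
    Y.isBasis_affineOpens.exists_subset_of_mem_open (Set.mem_univ (f x)) isOpen_univ
  obtain ⟨_, ⟨(V : X.Opens), (hV : IsAffineOpen V), rfl⟩, (hxV : x ∈ V), hsub⟩ :=
    X.isBasis_affineOpens.exists_subset_of_mem_open (show x ∈ (W₁ ⊓ f ⁻¹ᵁ U : X.Opens) from ⟨hx₁, hxU⟩)
      (W₁ ⊓ f ⁻¹ᵁ U).2
  have hV1 : V ≤ W₁ := fun p hp => (hsub hp).1
  have hVU : V ≤ f ⁻¹ᵁ U := fun p hp => (hsub hp).2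
  have hηU : genericPoint Y ∈ U := (GenFib.genericPoint_mem_iff U).mpr ⟨_, hxU⟩
  haveI : Nonempty U := ⟨⟨_, hηU⟩⟩
  let s := res G (hV1.trans hle) t
  have hs : j.app V s = 0 := by
    show j.app V (res G (hV1.trans hle) t) = 0
    rw [← res_res hle hV1, app_res, h0, res_zero]
  -- the germs at points of the generic fibre vanish
  have hgen : ∀ (p : X) (hp : p ∈ V), f p = genericPoint Y → germM G V p hp s = 0 := by
    intro p hp hpη
    obtain ⟨z, rfl⟩ : p ∈ Set.range (f.fiberι (genericPoint Y)) := by rw [Scheme.Hom.range_fiberι]; exact hpη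
    apply (bijective_pullη f G z).1
    rw [map_zero]
    apply injective_stalkMapM_of_mono
      (((Scheme.Modules.pullbackPushforwardAdjunction (f.fiberι (genericPoint Y))).homEquiv G G').symm j) z
    rw [stalkMap_pullη, stalkMapM_germ, hs, germM_zero, map_zero]
    exact ((stalkLinear _ z).map_zero).symm
  -- hence a nonzero section of the base annihilates `s`
  let α : Γ(Y, U) →+* Γ(X, V) := (f.appLE U V hVU).hom
  let I : Ideal Γ(X, V) :=
    { carrier := {b | b • s = 0}
      add_mem' := fun ha hb => by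
        simp only [Set.mem_setOf_eq] at ha hb ⊢
        rw [add_smul, ha, hb, add_zero]
      zero_mem' := zero_smul _ _
      smul_mem' := fun c b hb => by
        simp only [Set.mem_setOf_eq] at hb ⊢
        rw [smul_eq_mul, mul_smul, hb, smul_zero] }
  obtain ⟨a, ha0, haI⟩ : ∃ a : Γ(Y, U), a ≠ 0 ∧ α a ∈ I := by
    by_contra hcon
    push Not at hcon
    have hdis : Disjoint (I : Set Γ(X, V)) ((nonZeroDivisors Γ(Y, U)).map α : Set Γ(X, V)) := by
      rw [Set.disjoint_left]
      rintro _ hb ⟨a, ha, rfl⟩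
      exact hcon a (nonZeroDivisors.ne_zero ha) hb
    obtain ⟨P, hP, hIP, hPd⟩ := Ideal.exists_le_prime_disjoint I _ hdis
    let P' : PrimeSpectrum Γ(X, V) := ⟨P, hP⟩
    have hpV : hV.fromSpec P' ∈ V := by rw [← SetLike.mem_coe, ← hV.range_fromSpec]; exact ⟨_, rfl⟩
    have hη : f (hV.fromSpec P') = genericPoint Y := by
      have hsq : Spec.map (f.appLE U V hVU) ≫ hU.fromSpec = hV.fromSpec ≫ f :=
        hU.SpecMap_appLE_fromSpec f hV hVU
      rw [← Scheme.Hom.comp_apply, ← hsq, Scheme.Hom.comp_apply,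
        show Spec.map (f.appLE U V hVU) P' = genericPoint (Spec Γ(Y, U)) from ?_, ← hU.primeIdealOf_genericPoint,
        hU.fromSpec_primeIdealOf]
      rw [genericPoint_eq_bot_of_affine]
      refine PrimeSpectrum.ext ?_
      show P.comap α = ⊥
      rw [eq_bot_iff]
      intro a ha
      rw [Submodule.mem_bot]
      by_contra h
      exact Set.disjoint_left.mp hPd ha ⟨a, mem_nonZeroDivisors_of_ne_zero h, rfl⟩
    letI := stalkModule G hpV
    haveI := isLocalizedModule_germ (isLocAt_of_isQuasicoherent G hV) hV hpV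
    have hz : germLinear G hpV s = 0 := hgen _ hpV hη
    obtain ⟨c, hc⟩ := (IsLocalizedModule.eq_zero_iff (hV.primeIdealOf ⟨_, hpV⟩).asIdeal.primeCompl _).mp hz
    have hP' : hV.primeIdealOf ⟨_, hpV⟩ = P' :=
      hV.fromSpec.isOpenEmbedding.injective (by rw [hV.fromSpec_primeIdealOf])
    exact c.2 ((congrArg PrimeSpectrum.asIdeal hP').ge (hIP hc))
  letI := FlatMod.moduleStalkOver f G x
  haveI hflat : Module.Flat (Y.presheaf.stalk (f x)) (G.presheaf.stalk x) := hfl x
  have htor := Module.Flat.torsion_eq_bot (R := Y.presheaf.stalk (f x)) (M := G.presheaf.stalk x)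
  rw [← germM_res (hV1.trans hle) hxV t]
  let gs : G.presheaf.stalk x := germM G V x hxV s
  suffices hmem : gs ∈ Submodule.torsion (Y.presheaf.stalk (f x)) (G.presheaf.stalk x) by
    rw [htor] at hmem
    have h0 : gs = 0 := (Submodule.mem_bot (Y.presheaf.stalk (f x))).mp hmem
    exact h0
  refine ⟨⟨Y.presheaf.germ U (f x) hxU a, mem_nonZeroDivisors_of_ne_zero fun h =>
    ha0 (germ_injective_of_isIntegral Y _ hxU (h.trans (map_zero _).symm))⟩, ?_⟩
  show (f.stalkMap x).hom (Y.presheaf.germ U (f x) hxU a) • germM G V x hxV s = 0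
  rw [Scheme.Hom.germ_stalkMap_apply, ← germ_resO (show V ≤ f ⁻¹ᵁ U from hVU) hxV, ← germM_smul]
  exact (congrArg (germM G V x hxV) (show _ • s = 0 from haI)).trans (germM_zero hxV)

theorem S4684 {X Y : Scheme.{u}} [IsIntegral Y]
    (hval : ∀ y : Y, ValuationRing (Y.presheaf.stalk y))
    (f : X ⟶ Y) (F : X.Modules) [F.IsQuasicoherent] (G' : (f.fiber (genericPoint Y)).Modules) [G'.IsQuasicoherent]
    (π : (Scheme.Modules.pullback (f.fiberι (genericPoint Y))).obj F ⟶ G') [Epi π] :
    (∃ (G : X.Modules) (ρ : F ⟶ G) (e : (Scheme.Modules.pullback (f.fiberι (genericPoint Y))).obj G ≅ G'),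
        Epi ρ ∧ Coh.IsQCoh G ∧ FlatMod.IsFlatOver f G ∧
          (Scheme.Modules.pullback (f.fiberι (genericPoint Y))).map ρ ≫ e.hom = π) ∧
      ∀ (G₁ G₂ : X.Modules) (ρ₁ : F ⟶ G₁) (ρ₂ : F ⟶ G₂)
        (e₁ : (Scheme.Modules.pullback (f.fiberι (genericPoint Y))).obj G₁ ≅ G')
        (e₂ : (Scheme.Modules.pullback (f.fiberι (genericPoint Y))).obj G₂ ≅ G'),
        Epi ρ₁ → Epi ρ₂ → Coh.IsQCoh G₁ → Coh.IsQCoh G₂ → FlatMod.IsFlatOver f G₁ → FlatMod.IsFlatOver f G₂ →
        (Scheme.Modules.pullback (f.fiberι (genericPoint Y))).map ρ₁ ≫ e₁.hom = π →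
        (Scheme.Modules.pullback (f.fiberι (genericPoint Y))).map ρ₂ ≫ e₂.hom = π →
        ∃ e : G₁ ≅ G₂, ρ₁ ≫ e.hom = ρ₂ := by
  let i := f.fiberι (genericPoint Y)
  haveI : IsAffineHom i := GenFib.isAffineHom_fiberι f
  let adj := Scheme.Modules.pullbackPushforwardAdjunction i
  let θ : F ⟶ (Scheme.Modules.pushforward i).obj G' := adj.homEquiv F G' π
  haveI : ((Scheme.Modules.pushforward i).obj G').IsQuasicoherent := QCqs72.isQuasicoherent_pushforward (M := G') i
  -- transposition of factorisations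
  have trans_eq : ∀ {G : X.Modules} (ρ : F ⟶ G) (j : G ⟶ (Scheme.Modules.pushforward i).obj G'),
      ρ ≫ j = θ ↔ (Scheme.Modules.pullback i).map ρ ≫ (adj.homEquiv G G').symm j = π := by
    intro G ρ j
    rw [← Adjunction.homEquiv_naturality_left_symm, Equiv.symm_apply_eq]
  refine ⟨?_, ?_⟩
  · let G := Abelian.image θ
    let ρ := Abelian.factorThruImage θ
    let j : G ⟶ (Scheme.Modules.pushforward i).obj G' := Abelian.image.ι θ
    have hfac : ρ ≫ j = θ := Abelian.image.fac θ
    haveI hm : Mono ((adj.homEquiv G G').symm j) := mono_adjoint j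
    have hπ := (trans_eq ρ j).mp hfac
    haveI he : Epi ((adj.homEquiv G G').symm j) := by
      have : Epi ((Scheme.Modules.pullback i).map ρ ≫ (adj.homEquiv G G').symm j) := by
        rw [hπ]; infer_instance
      exact epi_of_epi ((Scheme.Modules.pullback i).map ρ) _
    haveI : IsIso ((adj.homEquiv G G').symm j) := isIso_of_mono_of_epi _
    exact ⟨G, ρ, asIso ((adj.homEquiv G G').symm j), inferInstance,
      QC70.isQuasicoherent_abelianImage θ, isFlatOver_of_mono j hval, hπ⟩
  · intro G₁ G₂ ρ₁ ρ₂ e₁ e₂ h₁ h₂ hq₁ hq₂ hf₁ hf₂ hc₁ hc₂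
    haveI := h₁
    haveI := h₂
    haveI : G₁.IsQuasicoherent := hq₁
    haveI : G₂.IsQuasicoherent := hq₂
    let j₁ := adj.homEquiv G₁ G' e₁.hom
    let j₂ := adj.homEquiv G₂ G' e₂.hom
    have f₁ : ρ₁ ≫ j₁ = θ := (trans_eq ρ₁ j₁).mpr (by rw [Equiv.symm_apply_apply]; exact hc₁)
    have f₂ : ρ₂ ≫ j₂ = θ := (trans_eq ρ₂ j₂).mpr (by rw [Equiv.symm_apply_apply]; exact hc₂)
    haveI : IsIso ((adj.homEquiv G₁ G').symm j₁) := by rw [Equiv.symm_apply_apply]; infer_instance
    haveI : IsIso ((adj.homEquiv G₂ G').symm j₂) := by rw [Equiv.symm_apply_apply]; infer_instance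
    haveI : Mono j₁ := mono_of_isFlatOver j₁ hf₁
    haveI : Mono j₂ := mono_of_isFlatOver j₂ hf₂
    let E₁ : MonoFactorisation θ := { I := G₁, m := j₁, e := ρ₁, fac := f₁ }
    let E₂ : MonoFactorisation θ := { I := G₂, m := j₂, e := ρ₂, fac := f₂ }
    haveI : StrongEpi ρ₁ := strongEpi_of_epi ρ₁
    haveI : StrongEpi ρ₂ := strongEpi_of_epi ρ₂
    have sq₁ : CommSq ρ₂ ρ₁ j₂ j₁ := ⟨f₂.trans f₁.symm⟩
    have sq₂ : CommSq ρ₁ ρ₂ j₁ j₂ := ⟨f₁.trans f₂.symm⟩
    refine ⟨⟨sq₁.lift, sq₂.lift, ?_, ?_⟩, sq₁.fac_left⟩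
    · rw [← cancel_epi ρ₁, CommSq.fac_left_assoc, CommSq.fac_left, Category.comp_id]
    · rw [← cancel_epi ρ₂, CommSq.fac_left_assoc, CommSq.fac_left, Category.comp_id]

end Groth.Agent.Lim60.FlatQuot
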