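import Groth.Agent.FF71.Classes
import Groth.Agent.Serre71.Finite
import Groth.Agent.Mum71.Model
import Groth.Agent.Var76.SuppVanish
import Groth.Agent.E4O.InfDescent
import Groth.Agent.E4O.FibreComp
import Groth.Agent.E4O.BaseChangeDim
import Mathlib.RingTheory.Filtration
import Mathlib.RingTheory.Localization.BaseChange

/-!
# Vanishing of cohomology of coherent modules above the dimension of the fibres

Formal functions over local Noetherian rings, and localisation of the Čech complex.
-/

set_option autoImplicit false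
set_option maxSynthPendingDepth 6
set_option linter.style.haveILetI false
set_option backward.isDefEq.respectTransparency.types false

universe u

noncomputable section

open CategoryTheory CategoryTheory.Limits AlgebraicGeometry TopologicalSpace Opposite TensorProduct

namespace Groth.Agent.Lim60

open Coh69 CechComp71 QC70 FF71 Mum71

variable {A : Type u} [CommRing A] {X : Scheme.{u}} [X.Over (Spec (CommRingCat.of A))]

lemma smulMod_natural {M N : X.Modules} (φ : M ⟶ N) (a : A) :
    Formal.smulMod A M a ≫ φ = φ ≫ Formal.smulMod A N a :=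
  haveI : (Crv77.toAbF X).Faithful := inferInstanceAs (SheafOfModules.toSheaf X.ringCatSheaf).Faithful
  (Crv77.toAbF X).map_injective (Crv77.smulAb_natural φ (Coh.toGlobal (X ↘ Spec (CommRingCat.of A)) a))

/-- Multiplication by elements of `I ^ n` kills `M / I ^ n M`. -/
lemma smulMod_modPow (I : Ideal A) (n : ℕ) (M : X.Modules) {a : A} (ha : a ∈ I ^ n) :
    Formal.smulMod A (Formal.modPow I n M) a = 0 := by
  have h0 : Formal.smulMod A M a ≫ Formal.modPowπ I n M = 0 := by
    have e : Sigma.ι (fun _ : ↥(I ^ n) => M) ⟨a, ha⟩ ≫ Formal.smulFamily (I ^ n) M =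
        Formal.smulMod A M a := by simp [Formal.smulFamily]
    rw [← e, Category.assoc]
    exact (congrArg (Sigma.ι (fun _ : ↥(I ^ n) => M) ⟨a, ha⟩ ≫ ·) (cokernel.condition _)).trans comp_zero
  have : Epi (Formal.modPowπ I n M) := by unfold Formal.modPowπ Formal.modPow; infer_instance
  rw [← cancel_epi (Formal.modPowπ I n M), ← smulMod_natural, h0, comp_zero]

/-- `M / I ^ n M` is supported over the zero locus of `I`. -/
lemma suppIn_modPow (I : Ideal A) (n : ℕ) (M : X.Modules) :
    Crv77.SuppIn (Formal.modPow I n M)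
      ((X ↘ Spec (CommRingCat.of A)) ⁻¹' PrimeSpectrum.zeroLocus (I : Set A)) := by
  intro x hx
  obtain ⟨a, haI, hax⟩ : ∃ a ∈ I, a ∉ ((X ↘ Spec (CommRingCat.of A)) x).asIdeal := by
    by_contra! h
    exact hx fun a ha => h a ha
  set g : Γ(X, ⊤) := Coh.toGlobal (X ↘ Spec (CommRingCat.of A)) (a ^ n) with hgdef
  have hxg : x ∈ X.basicOpen g := by
    rw [hgdef]
    show x ∈ X.basicOpen ((X ↘ Spec (CommRingCat.of A)).appTop
      ((Scheme.ΓSpecIso (CommRingCat.of A)).inv (a ^ n)))
    rw [← Scheme.preimage_basicOpen_top, basicOpen_eq_of_affine]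
    exact fun hm => hax (((X ↘ Spec (CommRingCat.of A)) x).isPrime.mem_of_pow_mem n
      (by simpa using hm))
  refine subsingleton_of_forall_eq 0 fun e => ?_
  obtain ⟨U, hxU, s, rfl⟩ := germM_exist e
  let W : X.Opens := U ⊓ X.basicOpen g
  rw [← germM_res (inf_le_left : W ≤ U) ⟨hxU, hxg⟩ s]
  have h0 : resO X (le_top : W ≤ ⊤) g • res (Formal.modPow I n M) (inf_le_left : W ≤ U) s = 0 :=
    (congrArg (fun φ : Formal.modPow I n M ⟶ Formal.modPow I n M =>
      φ.app W (res (Formal.modPow I n M) (inf_le_left : W ≤ U) s))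
      (smulMod_modPow I n M (Ideal.pow_mem_pow haI n)) :)
  have hu : IsUnit (resO X (le_top : W ≤ ⊤) g) := by
    have h1 : IsUnit (resO X (X.basicOpen_le g) g) :=
      RingedSpace.isUnit_res_basicOpen _ g
    have h2 := h1.map (X.presheaf.map (homOfLE (inf_le_right : W ≤ X.basicOpen g)).op).hom
    have e : (X.presheaf.map (homOfLE (inf_le_right : W ≤ X.basicOpen g)).op).hom
        (resO X (X.basicOpen_le g) g) = resO X (le_top : W ≤ ⊤) g := resO_resO _ _ g
    rwa [e] at h2
  rw [hu.smul_eq_zero.mp h0, germM_zero]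

/-- If cohomology of `M / I ^ n M` vanishes, every class has a cocycle with values in `I ^ n M`. -/
lemma exists_mem_of_subsingleton [IsNoetherianRing A] {ι : Type u} (U : ι → X.Opens)
    (hU : ⨆ i, U i = ⊤) (M : X.Modules) [M.IsQuasicoherent] (I : Ideal A)
    (hUa : ∀ (n : ℕ) (i : Fin (n + 1) → ι), IsAffineOpen (cOpen U i)) {p n : ℕ}
    (hv : Subsingleton (Coh.HH X (Formal.modPow I n M) (p + 1))) (x : Coh.HH X M (p + 1)) :
    ∃ z : MZ U M (p + 1), (z.1 : Cochain U M.presheaf (p + 1)) ∈ CJ A U M (I ^ n) (p + 1) ∧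
      toHH U hU M (p + 1) z = x := by
  let π := Formal.modPowπ I n M
  have hacM := acyclicOn_of_isAffineOpen U M hUa
  have hacQ := acyclicOn_of_isAffineOpen U (Formal.modPow I n M) hUa
  obtain ⟨z, rfl⟩ := toHH_surjective hU hacM (p + 1) x
  obtain ⟨e, he⟩ := (toHH_eq_zero_iff hU hacQ p
    (zmap ((SheafOfModules.toSheaf _).map π) (p + 1) z)).1 (hv.elim _ _)
  choose e' he' using fun i => modPowπ_app_surjective I M n (hUa p i) (e i)
  let b : MZ U M (p + 1) := ⟨cd U M.presheaf p e', Coh69.cd_cd U p e'⟩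
  refine ⟨z - b, fun i => mem_secI_of_modPowπ_eq_zero I M n (hUa (p + 1) i) ?_, ?_⟩
  · change π.app _ ((show Γ(M, cOpen U i) from z.1 i) - cd U M.presheaf p e' i) = 0
    have hc := congrFun (cd_cmap U ((SheafOfModules.toSheaf _).map π).hom p e') i
    rw [show cmap U ((SheafOfModules.toSheaf _).map π).hom p e' = e from funext he'] at hc
    rw [map_sub, sub_eq_zero]
    exact ((congrFun he i).symm).trans hc
  · rw [map_sub, (toHH_eq_zero_iff hU hacM p b).2 ⟨e', rfl⟩, sub_zero]

variable [IsProper (X ↘ Spec (CommRingCat.of A))]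

/-- Over a Noetherian local ring, cohomology of coherent modules vanishes above the dimension of
the closed fibre. -/
theorem subsingleton_hh_of_local [IsNoetherianRing A] [IsLocalRing A] {d : ℕ}
    (hd : topologicalKrullDim
      ↥((X ↘ Spec (CommRingCat.of A)) ⁻¹' ({IsLocalRing.closedPoint A} : Set (PrimeSpectrum A))) ≤ d)
    (M : X.Modules) (hM : Coh.IsCoh M) {p : ℕ} (hp : d < p) : Subsingleton (Coh.HH X M p) := by
  let m := IsLocalRing.maximalIdeal A
  haveI : IsLocallyNoetherian X :=
    LocallyOfFiniteType.isLocallyNoetherian (X ↘ Spec (CommRingCat.of A))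
  haveI : CompactSpace X := QuasiCompact.compactSpace_of_compactSpace (X ↘ Spec (CommRingCat.of A))
  haveI : AlgebraicGeometry.IsNoetherian X := ⟨⟩
  have hz : PrimeSpectrum.zeroLocus (m : Set A) = {IsLocalRing.closedPoint A} := by
    rw [show (m : Set A) = (IsLocalRing.closedPoint A).asIdeal from rfl,
      ← PrimeSpectrum.closure_singleton]
    exact (IsLocalRing.isClosed_singleton_closedPoint A).closure_eq
  have hn : ∀ n, Subsingleton (Coh.HH X (Formal.modPow m n M) p) := fun n =>
    Var76.subsingleton_HH_of_support (Formal.modPow m n M)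
      ((IsLocalRing.isClosed_singleton_closedPoint A).preimage
        (X ↘ Spec (CommRingCat.of A)).continuous)
      (hz ▸ suppIn_modPow m n M) hd p hp
  obtain ⟨q, rfl⟩ : ∃ q, p = q + 1 := ⟨p - 1, by omega⟩
  haveI : Module.Finite A (Coh.HH X M (q + 1)) := Serre71.finite_hh_of_isProper A M hM (q + 1)
  haveI := hM.1
  haveI := hM.2
  obtain ⟨ι, _, U, hU, hUa⟩ := FF71.exists_cover (A := A) (X := X)
  have hac := acyclicOn_of_isAffineOpen U M hUa
  obtain ⟨r, f, hf⟩ := Submodule.fg_iff_exists_fin_generating_family.1 (IsNoetherian.noetherian m)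
  replace hf : Ideal.span (Set.range f) = m := hf
  obtain ⟨e, he⟩ := exists_degree U M f hUa hU (q + 1) ⊤ fun _ _ _ => trivial
  refine subsingleton_of_forall_eq 0 fun x => ?_
  have hx : x ∈ ⨅ n : ℕ, m ^ n • (⊤ : Submodule A (Coh.HH X M (q + 1))) := by
    rw [Submodule.mem_iInf]
    intro n
    let T := m ^ n • (⊤ : Submodule A (Coh.HH X M (q + 1)))
    obtain ⟨z, hzm, rfl⟩ := exists_mem_of_subsingleton U hU M m hUa (hn (n + e)) x
    rw [← hf] at hzm
    obtain ⟨g, hg, b, hb, hgb⟩ := AddSubgroup.mem_sup.1 (he (n + e) (Nat.le_add_left e n) _ hzm z.2 trivial)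
    suffices h : ∃ z' : MZ U M (q + 1), (z'.1 : Cochain U M.presheaf (q + 1)) = g ∧
        toHH U hU M (q + 1) z' ∈ T by
      obtain ⟨z', hz', hT'⟩ := h
      rw [toHH_eq_of_sub_mem U hU M hac (J := Ideal.span (Set.range f) ^ (n + e)) (z := z) (z' := z') ?_]
      · exact hT'
      rw [hz', ← hgb]
      exact (congrArg (fun t => t ∈ BJ A U M _ (q + 1)) (add_sub_cancel_left g b)).mpr hb
    clear hgb
    induction hg using AddSubgroup.closure_induction with
    | mem c hc =>
      obtain ⟨a, ha, z', ⟨⟨hz', hzc⟩, -⟩, rfl⟩ := hc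
      refine ⟨smulZ A U M (q + 1) a ⟨z', hzc⟩, rfl, ?_⟩
      rw [toHH_smulZ]
      rw [hf, Nat.add_sub_cancel] at ha
      exact Submodule.smul_mem_smul ha Submodule.mem_top
    | zero => exact ⟨0, rfl, by rw [map_zero]; exact zero_mem _⟩
    | add a c _ _ ha hc =>
      obtain ⟨za, rfl, hza⟩ := ha
      obtain ⟨zc, rfl, hzc⟩ := hc
      exact ⟨za + zc, rfl, by rw [map_add]; exact add_mem hza hzc⟩
    | neg a _ ha =>
      obtain ⟨za, rfl, hza⟩ := ha
      exact ⟨-za, rfl, by rw [map_neg]; exact neg_mem hza⟩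
  rwa [Ideal.iInf_pow_smul_eq_bot_of_isLocalRing m (Ideal.IsPrime.ne_top inferInstance),
    Submodule.mem_bot] at hx

omit [IsProper (X ↘ Spec (CommRingCat.of A))] in
/-- Every tensor with a localisation has a single denominator. -/
lemma exists_eq_tmul_mk (S : Submonoid A) {N : Type u} [AddCommGroup N] [Module A N]
    (w : N ⊗[A] Localization S) :
    ∃ (c : N) (s : S), w = c ⊗ₜ Localization.mk 1 s := by
  induction w using TensorProduct.induction_on with
  | zero => exact ⟨0, 1, (TensorProduct.zero_tmul _ _).symm⟩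
  | tmul c b =>
    induction b using Localization.induction_on with
    | H y =>
      refine ⟨y.1 • c, y.2, ?_⟩
      rw [TensorProduct.smul_tmul, Localization.smul_mk, smul_eq_mul, mul_one]
  | add a b ha hb =>
    obtain ⟨c, s, rfl⟩ := ha
    obtain ⟨c', s', rfl⟩ := hb
    refine ⟨(s' : A) • c + (s : A) • c', s * s', ?_⟩
    rw [TensorProduct.add_tmul, TensorProduct.smul_tmul, TensorProduct.smul_tmul, Localization.smul_mk,
      Localization.smul_mk]
    congr 2 <;> rw [Localization.mk_eq_mk_iff, Localization.r_iff_exists] <;> refine ⟨1, ?_⟩ <;>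
      simp [mul_comm]

/-- If cohomology vanishes after localising at a prime, each class is killed outside the prime. -/
theorem exists_smul_eq_zero_of_localization (q : Ideal A) [q.IsPrime] (M : X.Modules)
    [M.IsQuasicoherent] {n : ℕ}
    (h : Subsingleton (Coh.HH (bc A X (Localization.AtPrime q))
      (bcMod (A := A) M (Localization.AtPrime q)) (n + 1)))
    (x : Coh.HH X M (n + 1)) : ∃ a, a ∉ q ∧ a • x = 0 := by
  obtain ⟨ι, _, U, hU, hU'⟩ := FF71.exists_cover (A := A) (X := X)
  have hac : AcyclicOn U (Coh.toAb M) := acyclicOn_of_isAffineOpen U M hU'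
  obtain ⟨z, rfl⟩ := toHH_surjective hU hac (n + 1) x
  let B := Localization.AtPrime q
  let c : Ch U M (n + 1) := z.1
  have hc : cdL A U M (n + 1) c = 0 := z.2
  obtain ⟨w, hw⟩ := (bcCoef (A := A) M B hU').mem_range_of_subsingleton (iSup_bcCover U B hU)
    (acyclicOn_bc M B hU') n h (c ⊗ₜ[A] (1 : B))
    (by rw [LinearMap.rTensor_tmul, hc, TensorProduct.zero_tmul])
  obtain ⟨v, s, rfl⟩ := exists_eq_tmul_mk q.primeCompl w
  rw [LinearMap.rTensor_tmul] at hw
  have h1 : cdL A U M n v ⊗ₜ[A] (1 : B) = ((s : A) • c) ⊗ₜ[A] (1 : B) := by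
    rw [← TensorProduct.smul_tmul', ← hw, ← TensorProduct.tmul_smul, Localization.smul_mk,
      smul_eq_mul, mul_one, Localization.mk_self]
  have h2 := congrArg (TensorProduct.comm A (Ch U M (n + 1)) B) h1
  rw [TensorProduct.comm_tmul, TensorProduct.comm_tmul] at h2
  obtain ⟨t, ht⟩ := IsLocalizedModule.exists_of_eq (S := q.primeCompl)
    (f := TensorProduct.mk A B (Ch U M (n + 1)) 1) h2
  refine ⟨(t : A) * s, fun hm => (Ideal.IsPrime.mem_or_mem ‹q.IsPrime› hm).elim t.2 s.2, ?_⟩
  rw [← toHH_smulZ, toHH_eq_zero_iff hU hac n]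
  refine ⟨((t : A) • v : Ch U M n), ?_⟩
  show cdL A U M n ((t : A) • v) = ((t : A) * s) • c
  rw [map_smul, mul_smul]
  exact ht

/-- Cohomology of coherent modules over a Noetherian affine base vanishes above the dimension of the
fibres. -/
theorem subsingleton_hh_coh [IsNoetherianRing A] {d : ℕ}
    (hd : ∀ y, topologicalKrullDim ↥((X ↘ Spec (CommRingCat.of A)).fiber y) ≤ d)
    (M : X.Modules) (hM : Coh.IsCoh M) {p : ℕ} (hp : d < p) : Subsingleton (Coh.HH X M p) := by
  obtain ⟨n, rfl⟩ : ∃ n, p = n + 1 := ⟨p - 1, by omega⟩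
  haveI := hM.1
  refine subsingleton_of_forall_eq 0 fun x => ?_
  let ann : Ideal A := LinearMap.ker (LinearMap.toSpanSingleton A _ x)
  have hann : ∀ a, a ∈ ann ↔ a • x = 0 := fun a => LinearMap.mem_ker
  by_contra hx
  have hne : ann ≠ ⊤ := fun h => hx (by
    have := (hann 1).1 (h ▸ Submodule.mem_top)
    rwa [one_smul] at this)
  obtain ⟨q, hq, hle⟩ := Ideal.exists_le_maximal _ hne
  let B := Localization.AtPrime q
  let f := bc A X B ↘ Spec (CommRingCat.of B)
  have hpb : IsPullback (bcπ A X B) f (X ↘ Spec (CommRingCat.of A))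
      (Spec.map (CommRingCat.ofHom (algebraMap A B))) :=
    IsPullback.of_hasPullback _ _
  haveI : IsProper f := MorphismProperty.of_isPullback hpb inferInstance
  haveI : IsNoetherianRing B := IsLocalization.isNoetherianRing q.primeCompl B inferInstance
  have hfib : topologicalKrullDim ↥(f.fiber (IsLocalRing.closedPoint B)) ≤ d :=
    (E4O.dim_fiber_le_iff f _ _).2 fun a _ =>
      (le_trans (by exact_mod_cast E4O.fdeg_le_of_isPullback hpb a) (E4O.le_dim_fiber _ _)).trans
        (hd _)
  haveI := subsingleton_hh_of_local (A := B) (X := bc A X B)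
    ((IsHomeomorph.topologicalKrullDim_eq _ (f.fiberHomeo (IsLocalRing.closedPoint B)).isHomeomorph).ge.trans hfib)
    (bcMod (A := A) M B) (E4O.isCoh_pullback (bcπ A X B) M hM) hp
  obtain ⟨a, ha, hax⟩ := exists_smul_eq_zero_of_localization q M ‹_› x
  exact ha (hle ((hann a).2 hax))

end Groth.Agent.Lim60
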