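import Groth.Agent.LimDesc62.Affine
import Groth.Agent.CAlg5.ColimSys

set_option autoImplicit false
set_option backward.isDefEq.respectTransparency.types false

/-! From descent of ring properties along filtered colimits to descent to a stage of a limit. -/

universe u

open CategoryTheory CategoryTheory.Limits AlgebraicGeometry TensorProduct
open Groth.Agent.LimDesc62

namespace Groth.Agent.Lim60

/-- The ring map on global sections of a base change of affine schemes is the base change. -/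
theorem prop_appTop_snd_iff {Q : ∀ {R S : Type u} [CommRing R] [CommRing S], (R →+* S) → Prop}
    (hQ : RingHom.RespectsIso Q) {W T U S : Scheme.{u}} {fst : W ⟶ T} {snd : W ⟶ U} {a : T ⟶ S}
    {b : U ⟶ S} [IsAffine T] [IsAffine U] [IsAffine S] (h : IsPullback fst snd a b)
    [Algebra Γ(S, ⊤) Γ(T, ⊤)] [Algebra Γ(S, ⊤) Γ(U, ⊤)]
    (ha : algebraMap Γ(S, ⊤) Γ(T, ⊤) = a.appTop.hom) (hb : algebraMap Γ(S, ⊤) Γ(U, ⊤) = b.appTop.hom) :
    Q snd.appTop.hom ↔ Q (algebraMap Γ(U, ⊤) (Γ(U, ⊤) ⊗[Γ(S, ⊤)] Γ(T, ⊤))) := by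
  have h' := (isPushout_appTop_of_isPullback h).flip
  have h0 := CommRingCat.isPushout_tensorProduct Γ(S, ⊤) Γ(U, ⊤) Γ(T, ⊤)
  rw [ha, hb] at h0
  let e := h0.isoIsPushout _ _ h'
  have he : CommRingCat.ofHom (Algebra.TensorProduct.includeLeftRingHom :
      Γ(U, ⊤) →+* Γ(U, ⊤) ⊗[Γ(S, ⊤)] Γ(T, ⊤)) ≫ e.hom = snd.appTop :=
    h0.inl_isoIsPushout_hom _ _ h'
  let r := e.commRingCatIsoToRingEquiv
  have h1 : r.toRingHom.comp (algebraMap Γ(U, ⊤) (Γ(U, ⊤) ⊗[Γ(S, ⊤)] Γ(T, ⊤))) = snd.appTop.hom :=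
    congrArg CommRingCat.Hom.hom he
  refine ⟨fun hs => ?_, fun hs => h1 ▸ hQ.1 _ r hs⟩
  have h3 : r.symm.toRingHom.comp snd.appTop.hom =
      algebraMap Γ(U, ⊤) (Γ(U, ⊤) ⊗[Γ(S, ⊤)] Γ(T, ⊤)) := by
    rw [← h1]
    exact RingHom.ext fun x => r.symm_apply_apply _
  exact h3 ▸ hQ.1 _ r.symm hs

open CAlg5 in
/-- Ring-theoretic descent along colimits gives descent to a stage for affine morphisms. -/
theorem descProp_of_ring {H P : MorphismProperty Scheme.{u}}
    (QH Q : ∀ {R S : Type u} [CommRing R] [CommRing S], (R →+* S) → Prop)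
    (hQ : RingHom.RespectsIso Q)
    (hHQ : ∀ {X Y : Scheme.{u}} (f : X ⟶ Y) [IsAffine X] [IsAffine Y], H f → QH f.appTop.hom)
    (hP : ∀ {X Y : Scheme.{u}} (f : X ⟶ Y) [IsAffine X] [IsAffine Y], P f ↔ Q f.appTop.hom)
    (hdesc : ∀ (R : Type u) [CommRing R] {ι : Type u} (G : ι → Type u) [∀ l, CommRing (G l)]
      [∀ l, Algebra R (G l)] (A : Type u) [CommRing A] [Algebra R A] (g : ∀ l, G l →ₐ[R] A)
      (_ : ColimSys R G A g) (C : Type u) [CommRing C] [Algebra R C],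
      QH (algebraMap R C) → Q (algebraMap A (A ⊗[R] C)) → ∃ l, Q (algebraMap (G l) (G l ⊗[R] C))) :
    DescProp ((H ⊓ @IsAffineHom) ⊓ targetAff.{u}) P := by
  constructor
  intro I _ _ D c hc _ i _ _ T a _ _ ha h
  obtain ⟨⟨hH, haff⟩, hiAff : IsAffine (D.obj i)⟩ := ha
  have : IsAffineHom a := haff
  have : IsAffine T := isAffine_of_isAffineHom a
  have : IsAffineHom (c.π.app i) := isAffineHom_π_app D c hc i
  have : IsAffine (((Functor.const I).obj c.pt).obj i) := isAffine_of_isAffineHom (c.π.app i)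
  have : IsAffine c.pt := ‹IsAffine (((Functor.const I).obj c.pt).obj i)›
  have hDaff : ∀ j : Over i, IsAffine (D.obj j.left) := fun j => isAffine_of_isAffineHom (D.map j.hom)
  have : IsConnected (Over i) := CategoryTheory.isConnected_of_hasTerminal (Over i)
  let D₁ := Over.forget i ⋙ D
  let c₁ : Cone D₁ := c.whisker (Over.forget i)
  have hc₁ : IsLimit c₁ := (Functor.Initial.isLimitWhiskerEquiv (Over.forget i) c).symm hc
  have : ∀ j : Over i, IsAffine (D₁.obj j) := hDaff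
  letI : Algebra Γ(D.obj i, ⊤) Γ(T, ⊤) := a.appTop.hom.toAlgebra
  letI : Algebra Γ(D.obj i, ⊤) Γ(c.pt, ⊤) := (c.π.app i).appTop.hom.toAlgebra
  letI (j : Over i) : Algebra Γ(D.obj i, ⊤) Γ(D.obj j.left, ⊤) := (D.map j.hom).appTop.hom.toAlgebra
  let g : ∀ j : Over i, Γ(D.obj j.left, ⊤) →ₐ[Γ(D.obj i, ⊤)] Γ(c.pt, ⊤) := fun j =>
    AlgHom.mk (c.π.app j.left).appTop.hom fun r => by
      show ((D.map j.hom).appTop ≫ (c.π.app j.left).appTop) r = (c.π.app i).appTop r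
      rw [← Scheme.Hom.comp_appTop, c.w]
  let tr : ∀ {j k : Over i} (_ : k ⟶ j), Γ(D.obj j.left, ⊤) →ₐ[Γ(D.obj i, ⊤)] Γ(D.obj k.left, ⊤) :=
    fun {j k} f => AlgHom.mk (D.map f.left).appTop.hom fun r => by
      show ((D.map j.hom).appTop ≫ (D.map f.left).appTop) r = (D.map k.hom).appTop r
      rw [← Scheme.Hom.comp_appTop, ← D.map_comp, Over.w]
  have htr : ∀ {j k : Over i} (f : k ⟶ j), (g k).comp (tr f) = g j := fun {j k} f =>
    AlgHom.ext fun r => by
      show ((D.map f.left).appTop ≫ (c.π.app k.left).appTop) r = (c.π.app j.left).appTop r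
      rw [← Scheme.Hom.comp_appTop, c.w]
  have hs : ColimSys Γ(D.obj i, ⊤) (fun j : Over i => Γ(D.obj j.left, ⊤)) Γ(c.pt, ⊤) g := by
    refine ⟨fun x => exists_appTop_π_eq_of_isAffine_of_isLimit D₁ c₁ hc₁ x, fun j k => ?_,
      fun j x hx => ?_, ⟨Over.mk (𝟙 i)⟩⟩
    · obtain ⟨l, u, v, -⟩ := IsCofilteredOrEmpty.cone_objs j k
      exact ⟨l, ⟨tr u, htr u⟩, tr v, htr v⟩
    · obtain ⟨k, f, hf⟩ := exists_appTop_map_eq_zero_of_isAffine_of_isLimit D₁ c₁ hc₁ j x hx
      exact ⟨k, tr f, htr f, hf⟩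
  have : IsAffine (pullback a (c.π.app i)) := .of_isPullback (IsPullback.of_hasPullback _ _)
  obtain ⟨l, hl⟩ := hdesc _ _ _ g hs Γ(T, ⊤) (hHQ a hH)
    ((prop_appTop_snd_iff (U := c.pt) (b := c.π.app i) hQ (IsPullback.of_hasPullback a (c.π.app i)) rfl rfl).mp ((hP _).mp h))
  have : IsAffine (pullback a (D.map l.hom)) := .of_isPullback (IsPullback.of_hasPullback _ _)
  exact ⟨l.left, l.hom,
    (hP _).mpr ((prop_appTop_snd_iff hQ (IsPullback.of_hasPullback a (D.map l.hom)) rfl rfl).mpr hl)⟩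

/-- For properties local at the source one may assume the morphism is affine. -/
theorem descProp_of_source {H P : MorphismProperty Scheme.{u}} [IsZariskiLocalAtSource P]
    [P.IsStableUnderBaseChange] (hH : ∀ {U X Y : Scheme.{u}} (j : U ⟶ X) (f : X ⟶ Y) [IsOpenImmersion j], H f → H (j ≫ f))
    (hd : DescProp ((H ⊓ @IsAffineHom) ⊓ targetAff.{u}) P) : DescProp (H ⊓ targetAff.{u}) P := by
  constructor
  intro I _ _ D c hc _ i _ _ T a _ _ ha h
  obtain ⟨hHa, hiAff : IsAffine (D.obj i)⟩ := ha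
  have : CompactSpace T := QuasiCompact.compactSpace_of_compactSpace a
  let 𝒰 := T.affineCover.finiteSubcover
  have : ∀ k, IsAffine (𝒰.X k) := fun k => inferInstanceAs (IsAffine (T.affineCover.X _))
  have key : ∀ k, ∃ (j : I) (φ : j ⟶ i), P (pullback.snd (𝒰.f k ≫ a) (D.map φ)) := by
    intro k
    have haff : IsAffineHom (𝒰.f k ≫ a) := by
      have : IsAffine (D.obj i) := hiAff
      infer_instance
    have : QuasiCompact (𝒰.f k ≫ a) := inferInstance
    have : QuasiSeparated (𝒰.f k ≫ a) := inferInstance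
    refine hd.desc D c hc i (𝒰.f k ≫ a) ⟨⟨hH _ _ hHa, haff⟩, hiAff⟩ ?_
    have e : pullback.map (𝒰.f k ≫ a) (c.π.app i) a (c.π.app i) (𝒰.f k) (𝟙 _) (𝟙 _) (by simp) (by simp) ≫
        pullback.snd a (c.π.app i) = pullback.snd (𝒰.f k ≫ a) (c.π.app i) :=
      (pullback.lift_snd _ _ _).trans (Category.comp_id _)
    rw [← e]
    exact IsZariskiLocalAtSource.comp (P := P) h _
  choose j φ hφ using key
  obtain ⟨m, ψ, χ, hχ⟩ := DescProp.exists_common φ
  refine ⟨m, ψ, (IsZariskiLocalAtSource.iff_of_openCover (P := P)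
    (Scheme.Pullback.openCoverOfLeft 𝒰 a (D.map ψ))).mpr fun k => ?_⟩
  have e : (Scheme.Pullback.openCoverOfLeft 𝒰 a (D.map ψ)).f k ≫ pullback.snd a (D.map ψ) =
      pullback.snd (𝒰.f k ≫ a) (D.map ψ) :=
    (pullback.lift_snd _ _ _).trans (Category.comp_id _)
  rw [e]
  exact prop_snd_of_eq_comp (D.map (χ k)) (by rw [← D.map_comp, hχ]) (hφ k)

end Groth.Agent.Lim60
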