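import Groth.Agent.Lim60.FibreVan
import Groth.Agent.Serre71.Cohom
import Groth.Agent.RB70.Coherent

/-!
# Top-degree cohomology of finite type modules on proper schemes is finite

A finite type module on a proper scheme over an arbitrary ring is generated over the base ring by
finitely presented modules of a Noetherian model; right exactness in top degree does the rest.
-/

set_option autoImplicit false
set_option maxSynthPendingDepth 6
set_option linter.style.haveILetI false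
set_option backward.isDefEq.respectTransparency.types false

universe u

noncomputable section

open CategoryTheory CategoryTheory.Limits AlgebraicGeometry TopologicalSpace Opposite TensorProduct

namespace Groth.Agent.Lim60

open Coh69 CechComp71 QC70 FF71 Mum71

lemma sum_app_apply {X : Scheme.{u}} {M N : X.Modules} {κ : Type*} (s : Finset κ) (φ : κ → (M ⟶ N))
    (V : X.Opens) (x : Γ(M, V)) : (∑ k ∈ s, φ k).app V x = ∑ k ∈ s, (φ k).app V x := by
  classical
  induction s using Finset.induction with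
  | empty => rfl
  | insert a s ha ih =>
    rw [Finset.sum_insert ha, Finset.sum_insert ha, ← ih]
    rfl

section Lift

variable {X : Scheme.{u}} {ι : Type u} {U : ι → X.Opens}

/-- Right exactness in degree `q` of the Čech complex when degree `q + 1` vanishes on the kernel. -/
theorem exists_cocycle_lift (hU : ⨆ i, U i = ⊤)
    {P N : X.Modules} (φ : P ⟶ N) (q : ℕ)
    (hac : AcyclicOn U (Coh.toAb (kernel φ)))
    (hvan : Subsingleton (Coh.HH X (kernel φ) (q + 1))) (c : ∀ i : Fin (q + 1) → ι, Γ(P, cOpen U i))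
    (hc : cd U N.presheaf q (cmap U φ.mapPresheaf q c) = 0) :
    ∃ w : MZ U P q, ∀ i, φ.app (cOpen U i) (w.1 i) = φ.app (cOpen U i) (c i) := by
  rw [cd_cmap] at hc
  choose k hk using fun i : Fin (q + 2) → ι =>
    exists_kernel_app_eq φ (cOpen U i) (cd U P.presheaf q c i) (congrFun hc i)
  have hk' : cmap U (kernel.ι φ).mapPresheaf (q + 1) k = cd U P.presheaf q c := funext hk
  have hinj : Function.Injective (cmap U (kernel.ι φ).mapPresheaf (q + 2)) := fun a b h =>
    funext fun i => app_injective_of_mono (kernel.ι φ) _ (congrFun h i)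
  have hcd : cd U (kernel φ).presheaf (q + 1) k = 0 := hinj (by
    rw [← cd_cmap, hk', cd_cd, map_zero])
  obtain ⟨r, hr⟩ := (toHH_eq_zero_iff hU hac q ⟨k, hcd⟩).1 (Subsingleton.elim _ _)
  refine ⟨⟨c - cmap U (kernel.ι φ).mapPresheaf q r, ?_⟩, fun i => ?_⟩
  · show cd U P.presheaf q (c - cmap U (kernel.ι φ).mapPresheaf q r) = 0
    rw [map_sub, cd_cmap, hr, hk', sub_self]
  · show φ.app (cOpen U i) (c i - (kernel.ι φ).app (cOpen U i) (r i)) = _
    rw [map_sub, ← ZClos93.app_comp_apply, kernel.condition]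
    exact sub_zero _

end Lift

section Transport

variable {X₀ X : Scheme.{u}} (h : X ⟶ X₀) {ι : Type u} (U : ι → X₀.Opens) (M : X.Modules)

lemma cOpen_preimage {n : ℕ} (i : Fin n → ι) :
    cOpen (fun k => h ⁻¹ᵁ U k) i = h ⁻¹ᵁ cOpen U i := by
  ext x
  exact (mem_cOpen _ i x).trans (mem_cOpen U i (h x)).symm

/-- Cochains of a direct image, as cochains upstairs. -/
def pushC (q : ℕ) :
    Cochain U ((Coh.push h).obj M).presheaf q →+ Cochain (fun k => h ⁻¹ᵁ U k) M.presheaf q :=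
  AddMonoidHom.mk' (fun c i => QC70.res M (cOpen_preimage h U i).le (c i)) fun c c' => by
    funext i
    exact QC70.res_add _ _ _

lemma res_ge_le {n : ℕ} (i : Fin n → ι) (x : Γ(M, h ⁻¹ᵁ cOpen U i)) :
    QC70.res M (cOpen_preimage h U i).ge (QC70.res M (cOpen_preimage h U i).le x) = x :=
  (QC70.res_res _ _ _).trans (QC70.res_self _)

lemma pushC_injective (q : ℕ) : Function.Injective (pushC h U M q) := fun c c' e => funext fun i =>
  (res_ge_le h U M i _).symm.trans
    ((congrArg (QC70.res M (cOpen_preimage h U i).ge) (congrFun e i)).trans (res_ge_le h U M i _))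

lemma pushC_surjective (q : ℕ) : Function.Surjective (pushC h U M q) := fun c =>
  ⟨fun i => QC70.res M (cOpen_preimage h U i).ge (c i), funext fun _ =>
    (QC70.res_res _ _ _).trans (QC70.res_self _)⟩

lemma cd_pushC (q : ℕ) (c : Cochain U ((Coh.push h).obj M).presheaf q) :
    cd (fun k => h ⁻¹ᵁ U k) M.presheaf q (pushC h U M q c) =
      pushC h U M (q + 1) (cd U ((Coh.push h).obj M).presheaf q c) := by
  funext i
  show _ = QC70.res M (cOpen_preimage h U i).le _
  rw [cd_apply, cd_apply]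
  refine Eq.trans ?_ (map_sum (M.presheaf.map (homOfLE (cOpen_preimage h U i).le).op).hom _ _).symm
  refine Finset.sum_congr rfl fun j _ => ?_
  refine Eq.trans ?_ (map_zsmul (M.presheaf.map (homOfLE (cOpen_preimage h U i).le).op).hom _ _).symm
  congr 1
  exact (QC70.res_res _ _ _).trans (QC70.res_res _ _ _).symm

/-- Cocycles of a direct image, as cocycles upstairs. -/
def pushZ (q : ℕ) : MZ U ((Coh.push h).obj M) q →+ MZ (fun k => h ⁻¹ᵁ U k) M q :=
  AddMonoidHom.mk' (fun z => ⟨pushC h U M q z.1, by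
    show cd (fun k => h ⁻¹ᵁ U k) M.presheaf q _ = 0
    rw [cd_pushC, show cd U ((Coh.push h).obj M).presheaf q z.1 = 0 from z.2, map_zero]⟩)
    fun z z' => Subtype.ext (map_add _ z.1 z'.1)

end Transport

section Main

variable {A A₀ : CommRingCat.{u}} {X X₀ : Scheme.{u}}

lemma appTop_toGlobal (φ : A₀ ⟶ A) (f : X ⟶ Spec A) (f₀ : X₀ ⟶ Spec A₀) (h : X ⟶ X₀)
    (w : h ≫ f₀ = f ≫ Spec.map φ) (c : A₀) :
    h.appTop ((f₀.appTop) ((Scheme.ΓSpecIso A₀).inv c)) =
      f.appTop ((Scheme.ΓSpecIso A).inv (φ c)) := by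
  have e : (Scheme.ΓSpecIso A₀).inv ≫ f₀.appTop ≫ h.appTop =
      φ ≫ (Scheme.ΓSpecIso A).inv ≫ f.appTop := by
    rw [← Scheme.Hom.comp_appTop, w, Scheme.Hom.comp_appTop, Scheme.ΓSpecIso_inv_naturality_assoc]
  exact congr($e c)

/-- Top-degree cohomology of a finite type quasi-coherent module is finite. -/
theorem finite_hh_top [X.Over (Spec (CommRingCat.of A))] [IsProper (X ↘ Spec (CommRingCat.of A))]
    {d : ℕ} (hd : ∀ y, topologicalKrullDim ↥((X ↘ Spec (CommRingCat.of A)).fiber y) ≤ d)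
    (M : X.Modules) (hM : Coh.IsCoh M) : Module.Finite A (Coh.HH X M d) := by
  haveI := hM.1
  haveI := hM.2
  obtain ⟨X₁, i, f₁, A₀, X₀, f₀, g, s, hi, hif, hA₀, hf₀, hpb, hd₀⟩ :=
    exists_model_fibre_dim_le (X ↘ Spec (CommRingCat.of A)) d hd
  let φ := Spec.preimage s
  letI : Algebra A₀ A := φ.hom.toAlgebra
  have hs : s = Spec.map (CommRingCat.ofHom (algebraMap A₀ A)) := (Spec.map_preimage s).symm
  letI : X₀.Over (Spec (CommRingCat.of A₀)) := ⟨f₀⟩
  haveI : IsProper (X₀ ↘ Spec (CommRingCat.of A₀)) := hf₀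
  rw [hs] at hpb
  let j : X ⟶ bc A₀ X₀ A := i ≫ hpb.isoPullback.hom
  haveI : IsClosedImmersion j := inferInstance
  let h : X ⟶ X₀ := j ≫ bcπ A₀ X₀ A
  haveI : IsAffineHom h := inferInstance
  have hjs : j ≫ (bc A₀ X₀ A ↘ Spec (CommRingCat.of A)) = X ↘ Spec (CommRingCat.of A) := by
    show (i ≫ hpb.isoPullback.hom) ≫ pullback.snd _ _ = _
    rw [Category.assoc, hpb.isoPullback_hom_snd, hif]
  have hw : h ≫ f₀ = (X ↘ Spec (CommRingCat.of A)) ≫ Spec.map φ := by
    show (j ≫ pullback.fst _ _) ≫ f₀ = _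
    rw [← hjs, Category.assoc, Category.assoc]
    exact congrArg (j ≫ ·) pullback.condition
  let N := (Coh.push h).obj M
  haveI : N.IsQuasicoherent := QCqs72.isQuasicoherent_pushforward (M := M) h
  haveI : IsLocallyNoetherian X₀ :=
    LocallyOfFiniteType.isLocallyNoetherian (X₀ ↘ Spec (CommRingCat.of A₀))
  haveI : CompactSpace X₀ := QuasiCompact.compactSpace_of_compactSpace (X₀ ↘ Spec (CommRingCat.of A₀))
  haveI : AlgebraicGeometry.IsNoetherian X₀ := ⟨⟩
  obtain ⟨ι, _, U, hU, hU'⟩ := FF71.exists_cover (A := A₀) (X := X₀)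
  let U' : ι → X.Opens := fun k => h ⁻¹ᵁ U k
  have hU2 : ⨆ k, U' k = ⊤ := by rw [← Scheme.Hom.preimage_iSup, hU]; rfl
  have hU2' : ∀ (n : ℕ) (k : Fin (n + 1) → ι), IsAffineOpen (cOpen U' k) := fun n k => by
    rw [cOpen_preimage]; exact (hU' n k).preimage h
  have hac : AcyclicOn U' (Coh.toAb M) := acyclicOn_of_isAffineOpen U' M hU2'
  -- scalars of the base
  have hrA : ∀ (V : X₀.Opens) (c : A₀), h.app V (rA A₀ X₀ V c) = rA A X (h ⁻¹ᵁ V) (φ c) := by
    intro V c
    refine (congr($(h.naturality (homOfLE (le_top : V ≤ ⊤)).op) _)).trans ?_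
    exact congrArg (X.presheaf.map _) (appTop_toGlobal φ (X ↘ Spec (CommRingCat.of A)) f₀ h hw c)
  -- multiplication by `a` on the direct image
  let μ : A → (N ⟶ N) := fun a => (Coh.push h).map (Formal.smulMod A M a)
  -- generators of the sections of `N` over the cover
  have hgen : ∀ k : Fin (d + 1) → ι, ∃ (n : ℕ) (G : Fin n → X₀.Modules) (ψ : ∀ l, G l ⟶ N)
      (t : ∀ l, Γ(G l, cOpen U k)), (∀ l, Coh.IsCoh (G l)) ∧
        ∀ m : Γ(M, h ⁻¹ᵁ cOpen U k), ∃ r : Fin n → Γ(X, h ⁻¹ᵁ cOpen U k),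
          m = ∑ l, r l • (show Γ(M, h ⁻¹ᵁ cOpen U k) from (ψ l).app (cOpen U k) (t l)) := by
    intro k
    haveI := QC70.finite_sections_of_isFiniteType M ((hU' d k).preimage h)
    obtain ⟨n, e, he⟩ := Module.Finite.exists_fin (R := Γ(X, h ⁻¹ᵁ cOpen U k))
      (M := Γ(M, h ⁻¹ᵁ cOpen U k))
    choose G ψ t hG ht using fun l => QCFilt57.exists_fp_hit N (hU' d k) (e l)
    refine ⟨n, G, ψ, t, fun l => ValVan29.isCoh_of_isFP (hG l), fun m => ?_⟩
    obtain ⟨r, hr⟩ := Submodule.mem_span_range_iff_exists_fun (R := Γ(X, h ⁻¹ᵁ cOpen U k))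
      (v := e) |>.1 (he ▸ Submodule.mem_top (x := m))
    refine ⟨r, hr.symm.trans (Finset.sum_congr rfl fun l _ => ?_)⟩
    rw [ht l]
  choose n G ψ t hG hgen using hgen
  -- classes coming from the model
  let T : ∀ (k : Fin (d + 1) → ι) (l : Fin (n k)), MZ U (G k l) d →+ Coh.HH X M d := fun k l =>
    (toHH U' hU2 M d).comp ((pushZ h U M d).comp
      (zmap ((SheafOfModules.toSheaf X₀.ringCatSheaf).map (ψ k l)) d))
  have hTeq : ∀ k l (w w' : MZ U (G k l) d), toHH U hU (G k l) d w = toHH U hU (G k l) d w' →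
      T k l w = T k l w' := by
    intro k l w w' e
    rw [← sub_eq_zero, ← map_sub]
    have e0 : toHH U hU (G k l) d (w - w') = 0 := by rw [map_sub, e, sub_self]
    generalize hv : w - w' = v at e0
    rcases d with _ | q
    · rw [(toHH_zero_bijective U hU _).1 (e0.trans (map_zero _).symm), map_zero]
    · haveI := (hG k l).1
      obtain ⟨r, hr⟩ := (toHH_eq_zero_iff hU (acyclicOn_of_isAffineOpen U _ hU') q v).1 e0
      show toHH U' hU2 M (q + 1) _ = 0
      rw [toHH_eq_zero_iff hU2 hac q]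
      refine ⟨pushC h U M q (cmap U (ψ k l).mapPresheaf q r), ?_⟩
      rw [cd_pushC, cd_cmap, hr]
      rfl
  have hTsmul : ∀ k l (c : A₀) (w : MZ U (G k l) d),
      T k l (smulZ A₀ U (G k l) d c w) = φ c • T k l w := by
    intro k l c w
    show toHH U' hU2 M d _ = φ c • toHH U' hU2 M d _
    rw [← toHH_smulZ]
    congr 1
    refine Subtype.ext (funext fun i => ?_)
    show QC70.res M (cOpen_preimage h U i).le
        ((ψ k l).app (cOpen U i) (rA A₀ X₀ (cOpen U i) c • (show Γ(G k l, cOpen U i) from w.1 i))) =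
      rA A X (cOpen U' i) (φ c) • QC70.res M (cOpen_preimage h U i).le ((ψ k l).app (cOpen U i) (w.1 i))
    rw [Scheme.Modules.Hom.app_smul]
    show QC70.res M _ (h.app (cOpen U i) (rA A₀ X₀ (cOpen U i) c) •
      (show Γ(M, h ⁻¹ᵁ cOpen U i) from (ψ k l).app (cOpen U i) (w.1 i))) = _
    rw [QC70.res_smul, hrA, resO_rA]
  -- generators
  haveI : ∀ k l, Module.Finite A₀ (Coh.HH X₀ (G k l) d) := fun k l =>
    Serre71.finite_hh_of_isProper A₀ (G k l) (hG k l) d
  choose m e he using fun k l => Module.Finite.exists_fin (R := A₀) (M := Coh.HH X₀ (G k l) d)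
  choose z hz using fun k l (b : Fin (m k l)) =>
    toHH_surjective hU (haveI := (hG k l).1; acyclicOn_of_isAffineOpen U (G k l) hU') d (e k l b)
  let gens : (Σ (k : Fin (d + 1) → ι) (l : Fin (n k)), Fin (m k l)) → Coh.HH X M d :=
    fun p => T p.1 p.2.1 (z p.1 p.2.1 p.2.2)
  refine ⟨?_⟩
  rw [show (⊤ : Submodule A (Coh.HH X M d)) = Submodule.span A (Set.range gens) from ?_]
  · exact Submodule.fg_span (Set.finite_range gens)
  refine le_antisymm (fun x _ => ?_) le_top
  have hTmem : ∀ k l (w : MZ U (G k l) d), T k l w ∈ Submodule.span A (Set.range gens) := by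
    intro k l w
    obtain ⟨c, hc⟩ := Submodule.mem_span_range_iff_exists_fun (R := A₀) (v := e k l) |>.1
      ((he k l) ▸ Submodule.mem_top (x := toHH U hU (G k l) d w))
    have := hTeq k l w (∑ b, smulZ A₀ U (G k l) d (c b) (z k l b)) (by
      rw [map_sum]
      refine hc.symm.trans (Finset.sum_congr rfl fun b _ => ?_)
      rw [toHH_smulZ, hz])
    rw [this, map_sum]
    refine Submodule.sum_mem _ fun b _ => ?_
    rw [hTsmul]
    exact Submodule.smul_mem _ _ (Submodule.subset_span ⟨⟨k, l, b⟩, rfl⟩)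
  -- a given cocycle
  obtain ⟨z₁, rfl⟩ := toHH_surjective hU2 hac d x
  obtain ⟨c₁, hc₁⟩ := pushC_surjective h U M d z₁.1
  have hlift : ∀ k : Fin (d + 1) → ι, ∃ (p : ℕ) (l : Fin p → Fin (n k)) (a : Fin p → A)
      (v : ∀ q, Γ(G k (l q), cOpen U k)),
      c₁ k = ∑ q, (μ (a q)).app (cOpen U k) ((ψ k (l q)).app (cOpen U k) (v q)) := by
    intro k
    let val : (Σ l : Fin (n k), A × Γ(G k l, cOpen U k)) → Γ(N, cOpen U k) := fun e =>
      (μ e.2.1).app (cOpen U k) ((ψ k e.1).app (cOpen U k) e.2.2)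
    suffices h' : ∃ (p : ℕ) (e : Fin p → (Σ l : Fin (n k), A × Γ(G k l, cOpen U k))),
        c₁ k = ∑ q, val (e q) by
      obtain ⟨p, e, he⟩ := h'
      exact ⟨p, fun q => (e q).1, fun q => (e q).2.1, fun q => (e q).2.2, he⟩
    let P : Γ(M, h ⁻¹ᵁ cOpen U k) → Prop := fun y =>
      ∃ (p : ℕ) (e : Fin p → (Σ l : Fin (n k), A × Γ(G k l, cOpen U k))),
        (show Γ(N, cOpen U k) from y) = ∑ q, val (e q)
    have hP0 : P 0 := ⟨0, Fin.elim0, Finset.sum_empty.symm.trans (Finset.sum_congr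
      (Finset.univ_eq_empty (α := Fin 0)).symm fun _ _ => rfl)⟩
    have hPadd : ∀ y y', P y → P y' → P (y + y') := by
      rintro y y' ⟨p, e, he⟩ ⟨p', e', he'⟩
      refine ⟨p + p', Fin.append e e', ?_⟩
      rw [Fin.sum_univ_add]
      simp only [Fin.append_left, Fin.append_right]
      exact congrArg₂ (· + ·) he he'
    obtain ⟨r, hr⟩ := hgen k (c₁ k)
    show P (c₁ k)
    rw [show c₁ k = _ from hr]
    refine Finset.sum_induction _ P hPadd hP0 fun l _ => ?_
    obtain ⟨r', hr'⟩ := j.app_surjective (bcπ A₀ X₀ A ⁻¹ᵁ cOpen U k) ((hU' d k).preimage _) (r l)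
    letI := (rA A₀ X₀ (cOpen U k)).toAlgebra
    obtain ⟨E, hE1, hE2⟩ := exists_bc_equiv A₀ X₀ A (hU' d k)
    obtain ⟨w, rfl⟩ := E.surjective r'
    rw [← hr']
    clear hr'
    let Q' : Γ(X, h ⁻¹ᵁ cOpen U k) → Prop := fun r =>
      P (r • (show Γ(M, h ⁻¹ᵁ cOpen U k) from (ψ k l).app (cOpen U k) (t k l)))
    show Q' _
    induction w using TensorProduct.induction_on with
    | zero =>
      rw [map_zero, map_zero]
      exact (congrArg P (zero_smul Γ(X, h ⁻¹ᵁ cOpen U k)
        (show Γ(M, h ⁻¹ᵁ cOpen U k) from (ψ k l).app (cOpen U k) (t k l)))).mpr hP0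
    | add w w' hw hw' =>
      rw [map_add, map_add]
      exact (congrArg P (add_smul (R := Γ(X, h ⁻¹ᵁ cOpen U k)) _ _
        (show Γ(M, h ⁻¹ᵁ cOpen U k) from (ψ k l).app (cOpen U k) (t k l)))).mpr (hPadd _ _ hw hw')
    | tmul b a =>
      refine ⟨1, fun _ => ⟨l, a, b • t k l⟩, ?_⟩
      rw [Fin.sum_univ_one, show (b ⊗ₜ[A₀] a : Γ(X₀, cOpen U k) ⊗[A₀] A) = (1 ⊗ₜ a) * (b ⊗ₜ 1) by
        rw [Algebra.TensorProduct.tmul_mul_tmul, mul_one, one_mul], map_mul, hE1, hE2, map_mul]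
      have hj : j.app (bcπ A₀ X₀ A ⁻¹ᵁ cOpen U k) (rA A (bc A₀ X₀ A) (bcπ A₀ X₀ A ⁻¹ᵁ cOpen U k) a) =
          rA A X (h ⁻¹ᵁ cOpen U k) a := by
        refine (congr($(j.naturality (homOfLE (le_top : bcπ A₀ X₀ A ⁻¹ᵁ cOpen U k ≤ ⊤)).op) _)).trans ?_
        refine congrArg (X.presheaf.map _) ?_
        show j.appTop ((bc A₀ X₀ A ↘ Spec (CommRingCat.of A)).appTop _) = _
        rw [← hjs]
        rfl
      rw [hj]
      refine (mul_smul (α := Γ(X, h ⁻¹ᵁ cOpen U k)) _ _
        (show Γ(M, h ⁻¹ᵁ cOpen U k) from (ψ k l).app (cOpen U k) (t k l))).trans ?_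
      show _ = (μ a).app (cOpen U k) ((ψ k l).app (cOpen U k) (b • t k l))
      rw [Scheme.Modules.Hom.app_smul]
      rfl
  choose p l a v hv using hlift
  let κ := Σ k : Fin (d + 1) → ι, Fin (p k)
  obtain ⟨κn, ⟨eκ⟩⟩ := Finite.exists_equiv_fin κ
  let Q : Fin κn → X₀.Modules := fun b => G (eκ.symm b).1 (l _ (eκ.symm b).2)
  let Φ : ⨁ Q ⟶ N := biproduct.desc fun b => ψ _ _ ≫ μ (a _ (eκ.symm b).2)
  haveI hQ : (⨁ Q).IsQuasicoherent := Serre71.isQuasicoherent_biproduct Q fun b => (hG _ _).1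
  -- a cochain of the sum mapping to `c₁`
  let w₀ : ∀ k : Fin (d + 1) → ι, Fin κn → Prop := fun k b => (eκ.symm b).1 = k
  let c : ∀ k : Fin (d + 1) → ι, Γ(⨁ Q, cOpen U k) := fun k =>
    ∑ q : Fin (p k), (biproduct.ι Q (eκ ⟨k, q⟩)).app (cOpen U k)
      (show Γ(Q (eκ ⟨k, q⟩), cOpen U k) from
        (show Γ(G (eκ.symm (eκ ⟨k, q⟩)).1 (l _ (eκ.symm (eκ ⟨k, q⟩)).2), cOpen U k) from
          (eκ.symm_apply_apply ⟨k, q⟩).symm ▸ v k q))
  have hΦc : ∀ k, Φ.app (cOpen U k) (c k) = c₁ k := by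
    intro k
    rw [hv k, map_sum]
    refine Finset.sum_congr rfl fun q _ => ?_
    rw [← ZClos93.app_comp_apply, biproduct.ι_desc]
    have key : ∀ (b : κ) (hb : b = ⟨k, q⟩),
        (ψ b.1 (l b.1 b.2) ≫ μ (a b.1 b.2)).app (cOpen U k)
          (hb.symm ▸ v k q : Γ(G b.1 (l b.1 b.2), cOpen U k)) =
        (μ (a k q)).app (cOpen U k) ((ψ k (l k q)).app (cOpen U k) (v k q)) := by
      rintro _ rfl
      rfl
    exact key _ (eκ.symm_apply_apply ⟨k, q⟩)
  have hcoc : cd U N.presheaf d (cmap U Φ.mapPresheaf d c) = 0 := by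
    rw [show cmap U Φ.mapPresheaf d c = c₁ from funext hΦc]
    apply pushC_injective h U M (d + 1)
    rw [← cd_pushC, hc₁, map_zero]
    exact z₁.2
  haveI : (kernel Φ).IsQuasicoherent := QC70.isQuasicoherent_kernel Φ
  obtain ⟨w, hw⟩ := exists_cocycle_lift hU Φ d (acyclicOn_of_isAffineOpen U _ hU')
    (subsingleton_hh_qcoh_noetherian (A := A₀) hd₀ (kernel Φ) (Nat.lt_succ_self d)) c hcoc
  -- conclusion
  have hsum : z₁ = ∑ b, smulZ A U' M d (a _ (eκ.symm b).2) (pushZ h U M d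
      (zmap ((SheafOfModules.toSheaf X₀.ringCatSheaf).map (ψ _ (l _ (eκ.symm b).2))) d
        (zmap ((SheafOfModules.toSheaf X₀.ringCatSheaf).map (biproduct.π Q b)) d w))) := by
    refine Subtype.ext ?_
    rw [← hc₁, AddSubgroup.val_finset_sum]
    funext i
    rw [Finset.sum_apply]
    show QC70.res M (cOpen_preimage h U i).le (c₁ i) = _
    rw [← hΦc, ← hw i, show Φ = ∑ b, biproduct.π Q b ≫ ψ _ (l _ (eκ.symm b).2) ≫ μ (a _ (eκ.symm b).2)
      from biproduct.desc_eq]
    rw [sum_app_apply]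
    refine (map_sum (M.presheaf.map (homOfLE (cOpen_preimage h U i).le).op).hom _ _).trans ?_
    refine Finset.sum_congr rfl fun b _ => ?_
    show QC70.res M (cOpen_preimage h U i).le (rA A X (h ⁻¹ᵁ cOpen U i) (a _ (eκ.symm b).2) •
        (show Γ(M, h ⁻¹ᵁ cOpen U i) from
          (ψ _ (l _ (eκ.symm b).2)).app (cOpen U i) ((biproduct.π Q b).app (cOpen U i) (w.1 i)))) = _
    rw [QC70.res_smul, resO_rA]
    rfl
  rw [hsum, map_sum]
  refine Submodule.sum_mem _ fun b _ => ?_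
  rw [toHH_smulZ]
  exact Submodule.smul_mem _ _ (hTmem _ _
    (zmap ((SheafOfModules.toSheaf X₀.ringCatSheaf).map (biproduct.π Q b)) d w))

end Main

/-- Top-degree higher direct images of finite type modules are of finite type. -/
theorem isCoh_rpush_top {X Y : Scheme.{u}} (f : X ⟶ Y) [IsProper f] (d : ℕ)
    (hd : ∀ y : Y, topologicalKrullDim ↥(f.fiber y) ≤ d) [HasInjectiveResolutions X.Modules]
    (M : X.Modules) (hM : Coh.IsCoh M) : Coh.IsCoh ((Coh.Rpush f d).obj M) := by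
  haveI := hM.1
  haveI := Coh69.isQuasicoherent_rpush f M d
  choose V hV hxV _ using fun x : Y =>
    exists_isAffineOpen_mem_and_subset (X := Y) (x := x) (U := ⊤) trivial
  refine ⟨inferInstance, QC70.isFiniteType_of_finite_sections _ V
    (IsOpenCover.mk (top_le_iff.mp fun x _ => Opens.mem_iSup.mpr ⟨x, hxV x⟩)) hV fun x => ?_⟩
  let W := f ⁻¹ᵁ V x
  let A : CommRingCat.{u} := Γ(Y, V x)
  letI ov : W.toScheme.Over (Spec (CommRingCat.of A)) := ⟨RB70.affBase f (hV x)⟩
  haveI : IsProper (W.toScheme ↘ Spec (CommRingCat.of A)) :=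
    inferInstanceAs (IsProper ((f ∣_ V x) ≫ (hV x).isoSpec.hom))
  have hd' : ∀ y, topologicalKrullDim ↥((W.toScheme ↘ Spec (CommRingCat.of A)).fiber y) ≤ d :=
    fun y => dim_fiber_le_of_isPullback (RB70.isPullback_affBase f (hV x)) y (hd _)
  haveI := finite_hh_top (A := A) (X := W.toScheme) hd' (M.restrict W.ι) (haveI := hM.2; QC70.isCoh_of_iso
    ((Scheme.Modules.restrictFunctorIsoPullback W.ι).app M).symm
    ⟨QCPull72.isQuasicoherent_pullback W.ι M, QCPull72.isFiniteType_pullback W.ι M⟩)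
  obtain ⟨e, he⟩ := Mum71.exists_rpush_equiv f M (hV x) d
  let e' : Γ((Coh.Rpush f d).obj M, V x) ≃ₗ[Γ(Y, V x)] Coh.HH W.toScheme (M.restrict W.ι) d :=
    { e with
      map_smul' := fun a z => by
        refine (he a z).trans ?_
        exact congrArg (· • e z) (RB70.toGlobal_affBase f (hV x) a).symm }
  exact Module.Finite.equiv e'.symm

end Groth.Agent.Lim60
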