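import Groth.Agent.Serre69.RPushVanish
import Groth.Agent.Coh69.AffinePush
import Groth.Agent.Coh69.RelVanish
import Groth.Agent.QC70.DevissageAux

/-!
# Vanishing of higher direct images is stable under base change
-/

set_option autoImplicit false
set_option backward.isDefEq.respectTransparency.types false
universe u

open CategoryTheory CategoryTheory.Limits AlgebraicGeometry

namespace Groth.Agent.Lim60

variable {X Y : Scheme.{u}} (f : X ⟶ Y)

/-- Cohomology on the preimage of an affine open vanishes when higher direct images of all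
quasi-coherent modules do. -/
lemma subsingleton_hh_preimage [CompactSpace X] [QuasiSeparatedSpace X] [QuasiSeparatedSpace Y] (p : ℕ)
    (hvan : ∀ (M : X.Modules), Coh.IsQCoh M → IsZero ((Coh.RpushAb f (p + 1)).obj (Coh.toAb M)))
    {V : Y.Opens} (hV : IsAffineOpen V) (N : (↑(f ⁻¹ᵁ V) : Scheme.{u}).Modules) [N.IsQuasicoherent] :
    Subsingleton (Coh.HH (↑(f ⁻¹ᵁ V) : Scheme.{u}) N (p + 1)) := by
  haveI : QuasiCompact f := inferInstance
  haveI : QuasiSeparated f := QuasiSeparated.of_quasiSeparatedSpace f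
  haveI : CompactSpace ↥(↑(f ⁻¹ᵁ V) : Scheme.{u}) := isCompact_iff_compactSpace.mp (f.isCompact_preimage hV.isCompact)
  haveI : QuasiCompact (f ⁻¹ᵁ V).ι := inferInstance
  let L := (Scheme.Modules.pushforward (f ⁻¹ᵁ V).ι).obj N
  haveI hL : L.IsQuasicoherent := QCqs72.isQuasicoherent_pushforward (M := N) (f ⁻¹ᵁ V).ι
  haveI := Serre69.subsingleton_HE_preimage f L p (hvan L hL) hV
  obtain ⟨e⟩ := Coh69.nonempty_hhon L (f ⁻¹ᵁ V) (p + 1)
  haveI : Subsingleton (Coh.HHon X L (f ⁻¹ᵁ V) (p + 1)) := e.toEquiv.subsingleton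
  let c := (asIso (Scheme.Modules.restrictAdjunction (f ⁻¹ᵁ V).ι).counit).app N
  let c' := (SheafOfModules.toSheaf (↑(f ⁻¹ᵁ V) : Scheme.{u}).ringCatSheaf).mapIso c
  have h1 : Subsingleton (Coh69.HE (Coh.toAb (L.restrict (f ⁻¹ᵁ V).ι)) (p + 1)
      (⊤ : (↑(f ⁻¹ᵁ V) : Scheme.{u}).Opens)) :=
    (Coh69.hhEquiv (L.restrict (f ⁻¹ᵁ V).ι) (p + 1)).symm.toEquiv.subsingleton
  have h2 : Subsingleton (Coh69.HE (Coh.toAb N) (p + 1) (⊤ : (↑(f ⁻¹ᵁ V) : Scheme.{u}).Opens)) :=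
    @Serre69.subsingleton_ext_of_iso _ _ _ _ _ _ _ _ c' h1
  exact @Equiv.subsingleton _ _ (Coh69.hhEquiv N (p + 1)).toEquiv h2

/-- Vanishing of higher direct images above a degree is stable under base change. -/
theorem isZero_rpushAb_baseChange [CompactSpace X] [QuasiSeparatedSpace X] [QuasiSeparatedSpace Y] (p : ℕ)
    (hvan : ∀ (M : X.Modules), Coh.IsQCoh M → IsZero ((Coh.RpushAb f (p + 1)).obj (Coh.toAb M)))
    {X' Y' : Scheme.{u}} (g : Y' ⟶ Y) (f' : X' ⟶ Y') (g' : X' ⟶ X) (sq : IsPullback g' f' f g)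
    (M' : X'.Modules) [M'.IsQuasicoherent] :
    IsZero ((Coh.RpushAb f' (p + 1)).obj (Coh.toAb M')) := by
  refine Coh69.isZero_RpushAb_of_subsingleton f' _ _ fun U y hy => ?_
  obtain ⟨_, ⟨(V : Y.Opens), (hV : IsAffineOpen V), rfl⟩, (hyV : g y ∈ V), -⟩ :=
    Y.isBasis_affineOpens.exists_subset_of_mem_open (Set.mem_univ (g y)) isOpen_univ
  obtain ⟨_, ⟨(V' : Y'.Opens), (hV' : IsAffineOpen V'), rfl⟩, (hyV' : y ∈ V'), hsub⟩ :=
    Y'.isBasis_affineOpens.exists_subset_of_mem_open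
      (show y ∈ (U : Set Y') ∩ (g ⁻¹ᵁ V : Y'.Opens) from ⟨hy, hyV⟩) (U.2.inter (g ⁻¹ᵁ V).2)
  have hVV : V' ≤ g ⁻¹ᵁ V := fun z hz => (hsub hz).2
  refine ⟨V', fun z hz => (hsub hz).1, hyV', ?_⟩
  haveI : IsAffine V'.toScheme := hV'
  haveI : IsAffine V.toScheme := hV
  let P := f' ⁻¹ᵁ V'
  let γ := g.resLE V V' hVV
  haveI : IsAffineHom γ := isAffineHom_of_isAffine _
  have hPW : Set.range (P.ι ≫ g') ⊆ Set.range (f ⁻¹ᵁ V).ι := by
    rw [Scheme.Opens.range_ι]
    rintro _ ⟨z, rfl⟩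
    have hz : f' (P.ι z) ∈ V' := z.2
    show f ((P.ι ≫ g') z) ∈ V
    rw [← Scheme.Hom.comp_apply, Category.assoc, sq.w, Scheme.Hom.comp_apply, Scheme.Hom.comp_apply]
    exact hVV hz
  let a := IsOpenImmersion.lift (f ⁻¹ᵁ V).ι (P.ι ≫ g') hPW
  have hbig : IsPullback (a ≫ (f ⁻¹ᵁ V).ι) (f' ∣_ V') f (γ ≫ V.ι) := by
    rw [IsOpenImmersion.lift_fac, show γ ≫ V.ι = V'.ι ≫ g from Scheme.Hom.resLE_comp_ι _ _]
    exact ((isPullback_morphismRestrict f' V').flip).paste_horiz sq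
  have hw : a ≫ (f ∣_ V) = (f' ∣_ V') ≫ γ := by
    rw [← cancel_mono V.ι, Category.assoc, Category.assoc, morphismRestrict_ι, ← Category.assoc, hbig.w]
  have hsq : IsPullback a (f' ∣_ V') (f ∣_ V) γ :=
    IsPullback.of_right hbig hw (isPullback_morphismRestrict f V).flip
  haveI : IsAffineHom a := MorphismProperty.of_isPullback hsq.flip inferInstance
  haveI : (M'.restrict P.ι).IsQuasicoherent := inferInstance
  haveI : ((Scheme.Modules.pushforward a).obj (M'.restrict P.ι)).IsQuasicoherent :=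
    QCqs72.isQuasicoherent_pushforward (M := M'.restrict P.ι) a
  obtain ⟨e⟩ := Coh69.nonempty_hh_push a (M'.restrict P.ι) (p + 1)
  haveI := subsingleton_hh_preimage f p hvan hV ((Coh.push a).obj (M'.restrict P.ι))
  haveI : Subsingleton (Coh.HHon X' M' P (p + 1)) := e.toEquiv.subsingleton
  obtain ⟨e'⟩ := Coh69.nonempty_hhon M' P (p + 1)
  exact e'.symm.toEquiv.subsingleton

end Groth.Agent.Lim60
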